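import Cfsg.Agent.Lib.SchurPerm.HSData
import Cfsg.Agent.Lib.PermAut.HS.Embed
import Cfsg.Agent.Lib.Schur.Bound

/-!
The multiplier of the Higman-Sims group, as permutations of 100 points, is cyclic of order 2.
-/

set_option autoImplicit false

namespace CfsgLib.SchurPerm.HSCase

open CfsgLib.Comp Subgroup

/-- The membership test. -/
noncomputable def test : Test 100 where
  le := by norm_num
  S := PermAut.HS.grp
  ok c := PermCode.okb 100 c && PermCode.sift 100 PermAut.HS.genChain c
  sound c h := by
    rw [Bool.and_eq_true] at h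
    exact ⟨PermCode.ok_of_okb h.1, PermCode.mem_span PermAut.HS.gen_check h.1 h.2⟩

theorem card_test : Nat.card test.S = 44352000 := PermAut.HS.grp_card

theorem rel_true : relCheck test HSData.tail HSData.letters HSData.conjugators = true := by
  decide +kernel

theorem lin_true : HSData.tail.checkLin = true := by decide +kernel

theorem two_true : twoCheck HSData.tail HSData.two = true := by decide +kernel

theorem forms_true : HSData.tail.checkForms = true := by decide +kernel

theorem odd3_true : abelCheck test 3 HSData.odd3 = true := by decide +kernel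

theorem odd5_true : extraCheck test 5 HSData.odd5 = true := by decide +kernel

theorem inv_true : test.ok HSData.inv0 = true ∧ (support HSData.pairs).Nodup ∧
    (HSData.pairs.all fun q => Nat.beq (PermCode.get HSData.inv0 q.1) q.2 &&
      Nat.beq (PermCode.get HSData.inv0 q.2) q.1) = true ∧
    ((List.range 100).all fun i => (support HSData.pairs).any fun x => Nat.beq x i) = true := by
  decide +kernel

theorem perfect : _root_.commutator test.S = ⊤ := by
  have hsimple : IsSimpleGroup test.S := by
    obtain ⟨e⟩ := (show Nonempty (↥PermAut.HS.K ≃* test.S) from ⟨(MonoidHom.ofInjective PermAut.HS.act_injective).trans (MulEquiv.subgroupCongr PermAut.HS.act_range)⟩)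
    exact e.symm.isSimpleGroup_congr.2 PermAut.HS.simple_K
  rcases hsimple.eq_bot_or_eq_top_of_normal (_root_.commutator test.S) inferInstance with h | h
  · exfalso
    have hcomm : ∀ x y : test.S, x * y = y * x := fun x y =>
      commutatorElement_eq_one_iff_mul_comm.1 (Subgroup.mem_bot.1 (h ▸ (by
        rw [_root_.commutator_def]
        exact commutator_mem_commutator (mem_top x) (mem_top y))))
    let instC : CommGroup test.S :=
      { (inferInstance : Group test.S) with mul_comm := hcomm }
    exact Nat.not_prime_mul (a := 2) (b := 22176000) (by norm_num) (by norm_num)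
      (by rw [show 2 * 22176000 = Nat.card test.S from card_test.symm ▸ rfl]; exact IsSimpleGroup.prime_card)
  · exact h

theorem swaps_apply : ∀ {l : List (Fin 100 × Fin 100)}, (support l).Nodup → ∀ q ∈ l,
    swaps l q.1 = q.2 ∧ swaps l q.2 = q.1
  | [], _, q, hq => absurd hq (by simp)
  | r :: l, hl, q, hq => by
    rw [show support (r :: l) = [r.1, r.2] ++ support l from rfl, List.nodup_append] at hl
    obtain ⟨-, hl, hdis⟩ := hl
    show (Equiv.swap r.1 r.2 * swaps l) q.1 = q.2 ∧ (Equiv.swap r.1 r.2 * swaps l) q.2 = q.1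
    rw [Equiv.Perm.mul_apply, Equiv.Perm.mul_apply]
    rcases List.mem_cons.1 hq with rfl | hq
    · rw [swaps_apply_of_not_mem fun h => hdis q.1 (by simp) q.1 h rfl,
        swaps_apply_of_not_mem fun h => hdis q.2 (by simp) q.2 h rfl]
      simp
    · obtain ⟨e1, e2⟩ := swaps_apply hl q hq
      have hm1 : q.1 ∈ support l := List.mem_flatMap.2 ⟨q, hq, by simp⟩
      have hm2 : q.2 ∈ support l := List.mem_flatMap.2 ⟨q, hq, by simp⟩
      rw [e1, e2]
      exact ⟨Equiv.swap_apply_of_ne_of_ne (fun e => hdis r.1 (by simp) _ hm2 e.symm)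
        (fun e => hdis r.2 (by simp) _ hm2 e.symm),
        Equiv.swap_apply_of_ne_of_ne (fun e => hdis r.1 (by simp) _ hm1 e.symm)
        (fun e => hdis r.2 (by simp) _ hm1 e.symm)⟩

theorem inv_eq : (el test HSData.inv0 : Equiv.Perm (Fin 100)) = swaps HSData.pairs := by
  obtain ⟨hok, hnd, hq, hall⟩ := inv_true
  rw [coe_el test hok]
  apply Equiv.ext
  intro i
  obtain ⟨x, hx, hxi⟩ := List.any_eq_true.1 (List.all_eq_true.1 hall i (List.mem_range.2 i.2))
  obtain rfl : x = i := Fin.ext (Nat.eq_of_beq_eq_true hxi)
  obtain ⟨q, hqm, hxq⟩ := List.mem_flatMap.1 hx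
  have h := List.all_eq_true.1 hq q hqm
  rw [Bool.and_eq_true] at h
  obtain ⟨e1, e2⟩ := swaps_apply hnd q hqm
  simp only [List.mem_cons, List.not_mem_nil, or_false] at hxq
  apply Fin.ext
  rw [PermCode.val_apply (test.sound _ hok).1]
  rcases hxq with rfl | rfl
  · rw [e1]; exact Nat.eq_of_beq_eq_true h.1
  · rw [e2]; exact Nat.eq_of_beq_eq_true h.2

/-- The multiplier is cyclic of order 2. -/
theorem hasCyclic_two : Cfsg.HasCyclicSchurMultiplier test.S 2 := by
  have : Fact (Nat.Prime 3) := ⟨Nat.prime_three⟩
  have : Fact (Nat.Prime 5) := ⟨Nat.prime_five⟩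
  refine SchurBound.hasCyclic_of_squarefree (by decide +kernel) ?_ fun Γ _ _ σ hσ r hr => ?_
  · exact exists_stem_two perfect test.S.subtype Subtype.val_injective HSData.pairs inv_true.2.1
      (by decide +kernel) (s := el test HSData.inv0) inv_eq
  obtain ⟨hs, hc, hd⟩ := hσ
  have hodd : ∀ p : ℕ, p.Prime → p ≠ 2 → ¬ p ∣ Nat.card σ.ker := by
    intro p hp hp2
    by_cases h3 : p = 3
    · subst h3
      exact not_dvd_abel σ hs hc hd (k := 2) hp2 odd3_true (by decide +kernel) card_test (by norm_num)
    by_cases h5 : p = 5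
    · subst h5
      exact not_dvd_extra σ hs hc hd (k := 3) hp2 odd5_true (by decide +kernel) card_test (by norm_num)
    have := Fact.mk hp
    refine SchurBound.not_dvd_card_ker_of_sq_not_dvd σ hs hc hd fun hsq => ?_
    rw [card_test, show (44352000 : ℕ) = 2 ^ 9 * (3 ^ 2 * (5 ^ 3 * (7 * 11))) by norm_num] at hsq
    have c2 := Nat.Coprime.pow 2 9 ((Nat.coprime_primes hp Nat.prime_two).2 hp2)
    have c3 := Nat.Coprime.pow 2 2 ((Nat.coprime_primes hp Nat.prime_three).2 h3)
    have c5 := Nat.Coprime.pow 2 3 ((Nat.coprime_primes hp Nat.prime_five).2 h5)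
    have h' := c5.dvd_of_dvd_mul_left (c3.dvd_of_dvd_mul_left (c2.dvd_of_dvd_mul_left hsq))
    have hsf : Squarefree (7 * 11 : ℕ) := by decide +kernel
    exact hp.ne_one (Nat.isUnit_iff.1 (hsf p (by rwa [← sq])))
  have hdvd := card_dvd_two (two_part_coded σ hs hc hd HSData.tail rel_true lin_true two_true
    forms_true (m := 9) (by decide +kernel) (by
      rw [card_test, show (44352000 : ℕ) = 2 ^ 9 * 86625 by norm_num,
        Nat.factorization_mul (by norm_num) (by norm_num), Nat.Prime.factorization_pow Nat.prime_two]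
      simp [Nat.factorization_eq_zero_of_not_dvd (show ¬ 2 ∣ 86625 by norm_num)])) hodd
  refine ⟨fun h => ?_, fun h => h.trans hdvd⟩
  have h2 := Nat.le_of_dvd (by norm_num) (h.trans hdvd)
  have := hr.two_le
  nlinarith

end CfsgLib.SchurPerm.HSCase
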