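import Cfsg.Agent.Lib.SchurPerm.AltCover
import Cfsg.Prelude.Def_KGroupFacts

/-!
Stem double covers of perfect permutation groups from the double cover of the alternating group,
and transport of stem extensions along isomorphisms.
-/

set_option autoImplicit false

namespace CfsgLib.SchurPerm

open Subgroup

/-- A perfect permutation group with a product of `k` disjoint transpositions, `k` being 2 modulo
4, has a stem extension with kernel of order 2. -/
theorem exists_stem_two {G : Type} [Group G] [Finite G] (hperf : _root_.commutator G = ⊤) {n : ℕ}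
    (f : G →* Equiv.Perm (Fin n)) (hinj : Function.Injective f) (ps : List (Fin n × Fin n))
    (hnd : (support ps).Nodup) (hk : ps.length % 4 = 2) {s : G} (hs : f s = swaps ps) :
    ∃ (Γ : Type) (_ : Group Γ) (_ : Finite Γ) (σ : Γ →* G),
      Cfsg.IsStemExtension σ ∧ Nat.card σ.ker = 2 := by
  obtain ⟨Γ, _, _, π, z, hπ, hzc, hz2, hker, hsq⟩ := exists_cover_square n ps hnd hk
  have hsign : ∀ g, f g ∈ alternatingGroup (Fin n) := fun g => by
    rw [Equiv.Perm.mem_alternatingGroup]
    exact MonoidHom.mem_ker.1 (Abelianization.commutator_subset_ker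
      ((Equiv.Perm.sign : Equiv.Perm (Fin n) →* ℤˣ).comp f) (show g ∈ _root_.commutator G by
        rw [hperf]; exact mem_top g))
  let f' : G →* alternatingGroup (Fin n) := f.codRestrict _ hsign
  have hinj' : Function.Injective f' := fun a b h => hinj (congrArg Subtype.val h)
  let Δ : Subgroup Γ := f'.range.comap π
  let e := MonoidHom.ofInjective hinj'
  let σ : Δ →* G := e.symm.toMonoidHom.comp (π.subgroupComap f'.range)
  have hσ : ∀ x : Δ, f' (σ x) = π x := fun x => by
    have h := e.apply_symm_apply ((π.subgroupComap f'.range) x)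
    exact congrArg Subtype.val h
  have hsurj : Function.Surjective σ := by
    intro g
    obtain ⟨x, hx⟩ := hπ (f' g)
    refine ⟨⟨x, ⟨g, hx.symm⟩⟩, hinj' ?_⟩
    rw [hσ]; exact hx
  have hzΔ : z ∈ Δ := by
    show π z ∈ f'.range
    rw [show π z = 1 from MonoidHom.mem_ker.1 (hker ▸ mem_zpowers z)]
    exact one_mem _
  have hkerσ : ∀ x : Δ, x ∈ σ.ker ↔ (x : Γ) ∈ zpowers z := fun x => by
    rw [← hker, MonoidHom.mem_ker, MonoidHom.mem_ker, ← hσ x]
    exact ⟨fun h => by rw [h, map_one], fun h => hinj' (h.trans (map_one f').symm)⟩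
  have hcard : Nat.card σ.ker = 2 := by
    rw [← hz2, ← Nat.card_zpowers]
    exact Nat.card_congr
      { toFun := fun x => ⟨x.1.1, (hkerσ _).1 x.2⟩
        invFun := fun y => ⟨⟨y.1, by
          obtain ⟨k, hk⟩ := y.2
          rw [← show z ^ k = y.1 from hk]
          exact zpow_mem hzΔ k⟩, (hkerσ _).2 y.2⟩
        left_inv := fun x => rfl
        right_inv := fun y => rfl }
  refine ⟨Δ, inferInstance, inferInstance, σ, ⟨hsurj, fun x hx => ?_, fun x hx => ?_⟩, hcard⟩
  · refine mem_center_iff.2 fun y => Subtype.ext ?_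
    exact mem_center_iff.1 (zpowers_le.2 hzc ((hkerσ x).1 hx)) y.1
  · have hmap : (_root_.commutator Δ).map σ = ⊤ := by
      rw [_root_.commutator_def, map_commutator, map_top_of_surjective σ hsurj,
        ← _root_.commutator_def, hperf]
    obtain ⟨q, hq, hqs⟩ := (show s ∈ (_root_.commutator Δ).map σ by rw [hmap]; exact mem_top s)
    have hqz : (q : Γ) * (q : Γ) = z := hsq _ (by rw [← hσ q, hqs]; exact hs)
    have hzD : (⟨z, hzΔ⟩ : Δ) ∈ _root_.commutator Δ := by
      rw [show (⟨z, hzΔ⟩ : Δ) = q * q from Subtype.ext hqz.symm]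
      exact mul_mem hq hq
    obtain ⟨k, hk⟩ := (hkerσ x).1 hx
    rw [show x = (⟨z, hzΔ⟩ : Δ) ^ k from Subtype.ext (by rw [Subgroup.coe_zpow]; exact hk.symm)]
    exact zpow_mem hzD k

universe u

/-- A cyclic multiplier is invariant under isomorphisms. -/
theorem hasCyclic_congr {G G' : Type u} [Group G] [Group G'] (e : G ≃* G') {n : ℕ}
    (h : Cfsg.HasCyclicSchurMultiplier G n) : Cfsg.HasCyclicSchurMultiplier G' n := by
  have key : ∀ {G₁ G₂ : Type u} [Group G₁] [Group G₂] (e : G₁ ≃* G₂) {Γ : Type u} [Group Γ]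
      (σ : Γ →* G₁), Cfsg.IsStemExtension σ →
        (e.toMonoidHom.comp σ).ker = σ.ker ∧ Cfsg.IsStemExtension (e.toMonoidHom.comp σ) := by
    intro G₁ G₂ _ _ e Γ _ σ hσ
    have hk : (e.toMonoidHom.comp σ).ker = σ.ker := by
      ext x
      rw [MonoidHom.mem_ker, MonoidHom.mem_ker]
      exact map_eq_one_iff e e.injective
    exact ⟨hk, e.surjective.comp hσ.1, hk.le.trans hσ.2.1, hk.le.trans hσ.2.2⟩
  obtain ⟨⟨Γ, i1, i2, σ, hσ, ⟨ek⟩⟩, hall⟩ := h
  refine ⟨⟨Γ, i1, i2, e.toMonoidHom.comp σ, (key e σ hσ).2,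
    ⟨(MulEquiv.subgroupCongr (key e σ hσ).1).trans ek⟩⟩, fun Δ _ _ τ hτ => ?_⟩
  obtain ⟨π, hπ⟩ := hall Δ _ (key e.symm τ hτ).2
  exact ⟨(MulEquiv.subgroupCongr (key e.symm τ hτ).1).toMonoidHom.comp π,
    (MulEquiv.subgroupCongr (key e.symm τ hτ).1).surjective.comp hπ⟩

end CfsgLib.SchurPerm
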