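import Cfsg.Agent.Lib.DoubleCover.All
import Mathlib.Data.Fintype.List

/-!
In the double cover of an alternating group every lift of a product of `k` disjoint transpositions
squares to the central involution when `k` is 2 modulo 4.
-/

set_option autoImplicit false

open Matrix
open scoped commutatorElement

namespace CfsgLib.SchurPerm

open DoubleCover

/-- The product of a list of transpositions. -/
def swaps {n : ℕ} (ps : List (Fin n × Fin n)) : Equiv.Perm (Fin n) :=
  (ps.map fun q => Equiv.swap q.1 q.2).prod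

/-- The points of a list of pairs. -/
def support {n : ℕ} (ps : List (Fin n × Fin n)) : List (Fin n) := ps.flatMap fun q => [q.1, q.2]

theorem swaps_apply_of_not_mem {n : ℕ} : ∀ {l : List (Fin n × Fin n)} {x : Fin n},
    x ∉ support l → swaps l x = x
  | [], x, _ => rfl
  | r :: l, x, hx => by
    rw [show support (r :: l) = [r.1, r.2] ++ support l from rfl, List.mem_append] at hx
    push Not at hx
    show (Equiv.swap r.1 r.2 * swaps l) x = x
    rw [Equiv.Perm.mul_apply, swaps_apply_of_not_mem hx.2]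
    exact Equiv.swap_apply_of_ne_of_ne (fun e => hx.1 (by simp [e])) (fun e => hx.1 (by simp [e]))

theorem swaps_mul_self {n : ℕ} : ∀ {l : List (Fin n × Fin n)}, (support l).Nodup →
    swaps l * swaps l = 1
  | [], _ => by simp [swaps]
  | r :: l, hl => by
    rw [show support (r :: l) = [r.1, r.2] ++ support l from rfl, List.nodup_append] at hl
    obtain ⟨-, hl, hdis⟩ := hl
    have hc : swaps l * Equiv.swap r.1 r.2 = Equiv.swap r.1 r.2 * swaps l := by
      rw [Equiv.mul_swap_eq_swap_mul, swaps_apply_of_not_mem fun h => hdis r.1 (by simp) r.1 h rfl,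
        swaps_apply_of_not_mem fun h => hdis r.2 (by simp) r.2 h rfl]
    show Equiv.swap r.1 r.2 * swaps l * (Equiv.swap r.1 r.2 * swaps l) = 1
    rw [mul_assoc, ← mul_assoc (swaps l), hc, mul_assoc, swaps_mul_self hl, mul_one,
      Equiv.swap_mul_self]

/-- A double cover of an alternating group with the square of the lift known. -/
theorem exists_cover_square (n : ℕ) (ps : List (Fin n × Fin n)) (hnd : (support ps).Nodup)
    (hk : ps.length % 4 = 2) :
    ∃ (Γ : Type) (_ : Group Γ) (_ : Finite Γ) (π : Γ →* alternatingGroup (Fin n)) (z : Γ),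
      Function.Surjective π ∧ z ∈ Subgroup.center Γ ∧ orderOf z = 2 ∧
      π.ker = Subgroup.zpowers z ∧
      ∀ p : Γ, ((π p : alternatingGroup (Fin n)) : Equiv.Perm (Fin n)) = swaps ps → p * p = z := by
  obtain ⟨ι, i1, i2, i3, γ, hγsq, hγanti, hγcomm⟩ :=
    aRep_equiv (finSumFinEquiv.trans (finCongr (by omega : n + 3 * n = 4 * n))) (aRep_four_mul n)
  let g : Fin n → Matrix ι ι (ZMod 3) := fun i => γ (Sum.inl i)
  let g' : Fin (3 * n) → Matrix ι ι (ZMod 3) := fun i => γ (Sum.inr i)
  have hsq : ∀ i, g i * g i = 1 := fun i => (hγsq _).trans (one_smul _ _)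
  have hanti : ∀ i j, i ≠ j → g i * g j = -(g j * g i) := fun i j h => hγanti _ _ (by simpa using h)
  have hanti' : ∀ i j, g i * g' j = -(g' j * g i) := fun i j => hγanti _ _ (by simp)
  have hu2 : ∀ a b, a ≠ b → (g a - g b) * (g a - g b) = -1 := by
    intro a b hab
    rw [show (g a - g b) * (g a - g b) = g a * g a + g b * g b - (g a * g b + g b * g a) by
      noncomm_ring, hanti a b hab, neg_add_cancel, hsq, hsq, sub_zero, ← sub_eq_zero, sub_neg_eq_add,
      add_self_add_self]
  have hu : ∀ a b, a ≠ b → ∀ i, (g a - g b) * g i = -(g (Equiv.swap a b i) * (g a - g b)) := by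
    intro a b hab i
    rcases eq_or_ne i a with rfl | hia
    · rw [Equiv.swap_apply_left, sub_mul, mul_sub, hsq, hsq, neg_sub]
    rcases eq_or_ne i b with rfl | hib
    · rw [Equiv.swap_apply_right, sub_mul, mul_sub, hsq, hsq, neg_sub]
    rw [Equiv.swap_apply_of_ne_of_ne hia hib, sub_mul, mul_sub,
      hanti a i (Ne.symm hia), hanti b i (Ne.symm hib)]
    abel
  have hu' : ∀ a b j, (g a - g b) * g' j = -(g' j * (g a - g b)) := by
    intro a b j
    rw [sub_mul, mul_sub, hanti', hanti']
    abel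
  have hlift : ∀ σ : Equiv.Perm (Fin n), ∃ M : (Matrix ι ι (ZMod 3))ˣ,
      (∀ i, (M : Matrix ι ι (ZMod 3)) * g i = (Equiv.Perm.sign σ : ℤ) • (g (σ i) * M)) ∧
      ∀ j, (M : Matrix ι ι (ZMod 3)) * g' j = (Equiv.Perm.sign σ : ℤ) • (g' j * M) := by
    intro σ
    induction σ using Equiv.Perm.swap_induction_on with
    | one => exact ⟨1, fun i => by simp, fun j => by simp⟩
    | swap_mul f a b hab ih =>
      obtain ⟨M, hM, hM'⟩ := ih
      let u : (Matrix ι ι (ZMod 3))ˣ :=
        ⟨g a - g b, -(g a - g b), by rw [mul_neg, hu2 a b hab, neg_neg],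
          by rw [neg_mul, hu2 a b hab, neg_neg]⟩
      refine ⟨u * M, fun i => ?_, fun j => ?_⟩
      · rw [Units.val_mul, map_mul, Equiv.Perm.sign_swap hab, mul_assoc, hM i, mul_smul_comm,
          ← mul_assoc]
        show (Equiv.Perm.sign f : ℤ) • ((g a - g b) * g (f i) * M) = _
        rw [hu a b hab, neg_mul, mul_assoc, smul_neg, ← neg_smul]
        simp [u]
      · rw [Units.val_mul, map_mul, Equiv.Perm.sign_swap hab, mul_assoc, hM' j, mul_smul_comm,
          ← mul_assoc]
        show (Equiv.Perm.sign f : ℤ) • ((g a - g b) * g' j * M) = _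
        rw [hu' a b, neg_mul, mul_assoc, smul_neg, ← neg_smul]
        simp [u]
  let S : Subgroup (alternatingGroup (Fin n) × (Matrix ι ι (ZMod 3))ˣ) :=
    { carrier := {p | (∀ i, (p.2 : Matrix ι ι (ZMod 3)) * g i =
          g ((p.1 : Equiv.Perm (Fin n)) i) * p.2) ∧
        ∀ j, (p.2 : Matrix ι ι (ZMod 3)) * g' j = g' j * p.2}
      one_mem' := ⟨fun i => by simp, fun j => by simp⟩
      mul_mem' := by
        intro p q hp hq
        refine ⟨fun i => ?_, fun j => ?_⟩
        · show ((p.2 * q.2 : (Matrix ι ι (ZMod 3))ˣ) : Matrix ι ι (ZMod 3)) * g i = _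
          rw [Units.val_mul, mul_assoc, hq.1 i, ← mul_assoc, hp.1, mul_assoc]
          simp
        · show ((p.2 * q.2 : (Matrix ι ι (ZMod 3))ˣ) : Matrix ι ι (ZMod 3)) * g' j = _
          rw [Units.val_mul, mul_assoc, hq.2 j, ← mul_assoc, hp.2, mul_assoc]
          simp
      inv_mem' := by
        intro p hp
        refine ⟨fun i => ?_, fun j => ?_⟩
        · have h := hp.1 ((p.1 : Equiv.Perm (Fin n))⁻¹ i)
          rw [Equiv.Perm.inv_def, Equiv.apply_symm_apply, ← Equiv.Perm.inv_def] at h
          show ((p.2⁻¹ : (Matrix ι ι (ZMod 3))ˣ) : Matrix ι ι (ZMod 3)) * g i = _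
          rw [Units.inv_mul_eq_iff_eq_mul, ← mul_assoc]
          show g i = (p.2 : Matrix ι ι (ZMod 3)) * g ((p.1 : Equiv.Perm (Fin n))⁻¹ i) *
            ((p.2⁻¹ : (Matrix ι ι (ZMod 3))ˣ) : Matrix ι ι (ZMod 3))
          rw [h, mul_assoc, Units.mul_inv, mul_one]
        · show ((p.2⁻¹ : (Matrix ι ι (ZMod 3))ˣ) : Matrix ι ι (ZMod 3)) * g' j = g' j * _
          rw [Units.inv_mul_eq_iff_eq_mul, ← mul_assoc, hp.2 j, mul_assoc]
          exact (congrArg (g' j * ·) (Units.mul_inv p.2)).trans (mul_one _) |>.symm }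
  let π : S →* alternatingGroup (Fin n) := (MonoidHom.fst _ _).comp S.subtype
  have hsurj : Function.Surjective π := by
    intro σ
    obtain ⟨M, hM, hM'⟩ := hlift σ
    refine ⟨⟨(σ, M), fun i => ?_, fun j => ?_⟩, rfl⟩
    · rw [hM i, Equiv.Perm.mem_alternatingGroup.1 σ.2]; simp
    · rw [hM' j, Equiv.Perm.mem_alternatingGroup.1 σ.2]; simp
  have hone : ∀ p : S, π p = 1 → ((p.1.2 : Matrix ι ι (ZMod 3)) = 1 ∨
      (p.1.2 : Matrix ι ι (ZMod 3)) = -1) := by
    intro p hp
    obtain ⟨c, hc⟩ := hγcomm (p.1.2 : Matrix ι ι (ZMod 3)) (by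
      rintro (i | j)
      · have := p.2.1 i
        rw [show p.1.1 = 1 from hp] at this
        simpa using this
      · exact p.2.2 j)
    have hc0 : c ≠ 0 := by
      intro h0
      rw [h0, zero_smul] at hc
      have h1 := p.1.2.mul_inv
      rw [hc, zero_mul] at h1
      obtain ⟨x⟩ := i3
      exact zero_ne_one (α := ZMod 3) (by simpa using congrFun (congrFun h1 x) x)
    rcases (show ∀ c : ZMod 3, c ≠ 0 → c = 1 ∨ c = -1 by decide) c hc0 with rfl | rfl
    · exact Or.inl (by rw [hc, one_smul])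
    · exact Or.inr (by rw [hc, neg_one_smul])
  let z : S := ⟨(1, -1), fun i => by simp, fun j => by simp⟩
  have hz1 : z ≠ 1 := by
    intro h
    have h1 : ((-1 : (Matrix ι ι (ZMod 3))ˣ) : Matrix ι ι (ZMod 3)) = 1 :=
      congrArg (fun q : S => (q.1.2 : Matrix ι ι (ZMod 3))) h
    obtain ⟨x⟩ := i3
    have h2 := congrFun (congrFun h1 x) x
    simp at h2
    exact absurd h2 (by decide)
  have hzz : z * z = 1 := Subtype.ext (Prod.ext (one_mul _) (Units.ext (by simp [z])))
  have hzc : z ∈ Subgroup.center S := by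
    refine Subgroup.mem_center_iff.2 fun q => Subtype.ext (Prod.ext ?_ (Units.ext ?_))
    · simp [z]
    · simp [z]
  have hord : orderOf z = 2 := orderOf_eq_prime (by rw [pow_two]; exact hzz) hz1
  have hnorm : (Subgroup.zpowers z).Normal :=
    ⟨fun y hy q => by
      rw [Subgroup.mem_center_iff.1 (Subgroup.zpowers_le.2 hzc hy) q, mul_inv_cancel_right]
      exact hy⟩
  have hker : Subgroup.zpowers z = π.ker := by
    refine le_antisymm (Subgroup.zpowers_le.2 rfl) fun p hp => ?_
    rcases hone p hp with h | h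
    · rw [show p = 1 from Subtype.ext (Prod.ext hp (Units.ext h))]
      exact one_mem _
    · rw [show p = z from Subtype.ext (Prod.ext hp (Units.ext (by simpa [z] using h)))]
      exact Subgroup.mem_zpowers z
  refine ⟨S, inferInstance, inferInstance, π, z, hsurj, hzc, hord, hker.symm, fun p hp => ?_⟩
  -- the product of the vectors of the pairs
  let V : List (Fin n × Fin n) → Matrix ι ι (ZMod 3) := fun l => (l.map fun q => g q.1 - g q.2).prod
  have hV : ∀ l : List (Fin n × Fin n), (support l).Nodup →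
      (∀ i, V l * g i = ((-1 : ℤ) ^ l.length) • (g (swaps l i) * V l)) ∧
      (∀ j, V l * g' j = ((-1 : ℤ) ^ l.length) • (g' j * V l)) ∧
      V l * V l = ((-1 : ℤ) ^ (l.length * (l.length + 1) / 2)) • (1 : Matrix ι ι (ZMod 3)) := by
    intro l
    induction l with
    | nil => intro _; simp [V, swaps]
    | cons q l ih =>
      intro hl
      rw [show support (q :: l) = [q.1, q.2] ++ support l from rfl, List.nodup_append] at hl
      obtain ⟨hq, hl, hdis⟩ := hl
      have hab : q.1 ≠ q.2 := by simpa using hq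
      obtain ⟨h1, h2, h3⟩ := ih hl
      have hVq : V (q :: l) = (g q.1 - g q.2) * V l := by simp [V]
      have hVl : V l * (g q.1 - g q.2) = ((-1 : ℤ) ^ l.length) • ((g q.1 - g q.2) * V l) := by
        rw [mul_sub, h1, h1, swaps_apply_of_not_mem (fun h => hdis q.1 (by simp) q.1 h rfl),
          swaps_apply_of_not_mem (fun h => hdis q.2 (by simp) q.2 h rfl), sub_mul, smul_sub]
      refine ⟨fun i => ?_, fun j => ?_, ?_⟩
      · rw [hVq, mul_assoc, h1, mul_smul_comm, ← mul_assoc, hu _ _ hab, neg_mul, mul_assoc,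
          smul_neg, ← neg_smul, List.length_cons, pow_succ, mul_neg_one]
        rfl
      · rw [hVq, mul_assoc, h2, mul_smul_comm, ← mul_assoc, hu' _ _, neg_mul, mul_assoc,
          smul_neg, ← neg_smul, List.length_cons, pow_succ, mul_neg_one]
      · have e : (g q.1 - g q.2) * V l * ((g q.1 - g q.2) * V l) =
            ((-1 : ℤ) ^ l.length) • (((g q.1 - g q.2) * (g q.1 - g q.2)) * (V l * V l)) := by
          rw [mul_assoc, ← mul_assoc (V l), hVl, smul_mul_assoc, mul_smul_comm]
          simp only [mul_assoc]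
        rw [hVq, e, hu2 _ _ hab, h3, mul_smul_comm, mul_one, smul_neg, ← neg_smul, smul_smul,
          List.length_cons]
        congr 1
        rw [show (l.length + 1) * (l.length + 1 + 1) = l.length * (l.length + 1) + (l.length + 1) * 2
            by ring, Nat.add_mul_div_right _ _ two_pos, pow_add, pow_succ]
        ring
  obtain ⟨h1, h2, h3⟩ := hV ps hnd
  have hsgn : (-1 : ℤ) ^ ps.length = 1 := by
    rw [← Nat.div_add_mod ps.length 4, hk, pow_add, pow_mul]; norm_num
  have hsq2 : (-1 : ℤ) ^ (ps.length * (ps.length + 1) / 2) = -1 := by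
    have : ps.length * (ps.length + 1) / 2 % 2 = 1 := by
      obtain ⟨m, hm⟩ : ∃ m, ps.length = 4 * m + 2 := ⟨ps.length / 4, by omega⟩
      rw [hm, show (4 * m + 2) * (4 * m + 2 + 1) = (8 * m * m + 10 * m + 3) * 2 by ring,
        Nat.mul_div_cancel _ two_pos,
        show 8 * m * m + 10 * m + 3 = 2 * (4 * m * m + 5 * m + 1) + 1 by ring]
      omega
    rw [← Nat.div_add_mod (ps.length * (ps.length + 1) / 2) 2, this, pow_succ, pow_mul]
    norm_num
  rw [hsq2, neg_one_smul] at h3
  let W : (Matrix ι ι (ZMod 3))ˣ :=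
    ⟨V ps, -V ps, by rw [mul_neg, h3, neg_neg], by rw [neg_mul, h3, neg_neg]⟩
  have hs' : (swaps ps : Equiv.Perm (Fin n)) ∈ alternatingGroup (Fin n) := hp ▸ (π p).2
  let q : S := ⟨(⟨swaps ps, hs'⟩, W), fun i => by
    show V ps * g i = g (swaps ps i) * V ps
    rw [h1, hsgn, one_smul], fun j => by
    show V ps * g' j = g' j * V ps
    rw [h2, hsgn, one_smul]⟩
  have hqq : q * q = z := by
    refine Subtype.ext (Prod.ext (Subtype.ext ?_) (Units.ext ?_))
    · exact swaps_mul_self hnd
    · simp [z, q, W, h3]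
  have hpq : q⁻¹ * p ∈ π.ker := by
    rw [MonoidHom.mem_ker, map_mul, map_inv, inv_mul_eq_one]
    exact Subtype.ext hp.symm
  rw [← hker] at hpq
  obtain ⟨k, hk'⟩ := hpq
  have e : p = q * z ^ k := by rw [show z ^ k = q⁻¹ * p from hk', mul_inv_cancel_left]
  have hc : Commute (z ^ k) q := (show Commute q z from Subgroup.mem_center_iff.1 hzc q).symm.zpow_left k
  rw [e, hc.mul_mul_mul_comm, hqq, ← zpow_add, ← two_mul, zpow_mul, zpow_two, hzz, one_zpow, mul_one]

end CfsgLib.SchurPerm
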