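import Cfsg.Agent.Lib.Schur.Bound
import Cfsg.Agent.Lib.Schur.Multiplier

/-!
Criteria excluding an odd prime from the kernel of a stem extension: the Sylow subgroup is generated
by two elements and a normalising element acts suitably.
-/

set_option autoImplicit false

namespace CfsgLib.SchurPerm

open Subgroup
open scoped commutatorElement

variable {Γ G : Type*} [Group Γ] [Group G]

/-- Commutators of a subgroup with two generators are powers of their commutator, if it is central. -/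
theorem commutator_mem_zpowers {A B x y : Γ} (hA : A * ⁅A, B⁆ = ⁅A, B⁆ * A)
    (hB : B * ⁅A, B⁆ = ⁅A, B⁆ * B) (hx : x ∈ closure ({A, B} : Set Γ))
    (hy : y ∈ closure ({A, B} : Set Γ)) : ⁅x, y⁆ ∈ zpowers ⁅A, B⁆ := by
  set c := ⁅A, B⁆ with hc
  have hcen : ∀ g ∈ closure ({A, B} : Set Γ), ∀ k ∈ zpowers c, g * k * g⁻¹ = k := by
    intro g hg k hk
    obtain ⟨n, rfl⟩ := hk
    have hg' : g ∈ centralizer ({c} : Set Γ) := (closure_le _).2 (by
      rintro t (rfl | rfl)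
      · exact mem_centralizer_iff.2 fun s hs => by rw [Set.mem_singleton_iff.1 hs]; exact hA.symm
      · exact mem_centralizer_iff.2 fun s hs => by rw [Set.mem_singleton_iff.1 hs]; exact hB.symm) hg
    have h1 : Commute g c := (mem_centralizer_iff.1 hg' c rfl).symm
    show g * c ^ n * g⁻¹ = c ^ n
    rw [(h1.zpow_right n).eq, mul_inv_cancel_right]
  induction hx, hy using Subgroup.closure_induction₂ with
  | mem p q hp hq =>
    rcases hp with rfl | rfl <;> rcases hq with rfl | rfl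
    · rw [commutatorElement_self]; exact one_mem _
    · exact mem_zpowers _
    · rw [← commutatorElement_inv]; exact inv_mem (mem_zpowers _)
    · rw [commutatorElement_self]; exact one_mem _
  | one_left _ _ => simp
  | one_right _ _ => simp
  | mul_left u v w hu hv hw h1 h2 =>
    rw [show ⁅u * v, w⁆ = u * ⁅v, w⁆ * u⁻¹ * ⁅u, w⁆ by simp only [commutatorElement_def]; group,
      hcen u hu _ h2]
    exact mul_mem h2 h1
  | mul_right v w u hv hw hu h1 h2 =>
    rw [show ⁅u, v * w⁆ = ⁅u, v⁆ * (v * ⁅u, w⁆ * v⁻¹) by simp only [commutatorElement_def]; group,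
      hcen v hv _ h2]
    exact mul_mem h1 h2
  | inv_left u w hu hw h =>
    rw [show ⁅u⁻¹, w⁆ = u⁻¹ * ⁅u, w⁆⁻¹ * u⁻¹⁻¹ by simp only [commutatorElement_def]; group,
      hcen _ (inv_mem hu) _ (inv_mem h)]
    exact inv_mem h
  | inv_right u w hu hw h =>
    rw [show ⁅u, w⁻¹⁆ = w⁻¹ * ⁅u, w⁆⁻¹ * w⁻¹⁻¹ by simp only [commutatorElement_def]; group,
      hcen _ (inv_mem hw) _ (inv_mem h)]
    exact inv_mem h

/-- If lifts of the two generators have a central commutator whose powers in the kernel are trivial,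
then `p` does not divide the kernel. -/
theorem not_dvd_of_lifts [Finite Γ] {p : ℕ} [Fact p.Prime] (σ : Γ →* G)
    (hs : Function.Surjective σ) (hc : σ.ker ≤ center Γ) (hd : σ.ker ≤ _root_.commutator Γ)
    (Q : Sylow p G) {A B : Γ} (hQ : (Q : Subgroup G) = closure {σ A, σ B})
    (hA : A * ⁅A, B⁆ = ⁅A, B⁆ * A) (hB : B * ⁅A, B⁆ = ⁅A, B⁆ * B)
    (hk : ∀ n : ℤ, σ (⁅A, B⁆ ^ n) = 1 → ⁅A, B⁆ ^ n = 1) : ¬ p ∣ Nat.card σ.ker := by
  obtain ⟨P, hP⟩ := SchurBound.exists_sylow_map_eq σ hs Q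
  have hle : (P : Subgroup Γ) ≤ closure ({A, B} : Set Γ) ⊔ σ.ker := by
    rw [← comap_map_eq, ← map_le_iff_le_comap, MonoidHom.map_closure, Set.image_pair, ← hQ, hP]
  refine SchurSylow.not_dvd_card_ker σ hc hd P fun y hy hy1 => ?_
  have hcomm : _root_.commutator (P : Subgroup Γ) ≤ (zpowers ⁅A, B⁆).subgroupOf (P : Subgroup Γ) := by
    rw [_root_.commutator_def, commutator_le]
    intro u _ v _
    rw [mem_subgroupOf, ← Subgroup.coe_subtype, map_commutatorElement]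
    simp only [Subgroup.coe_subtype]
    obtain ⟨u', hu', z1, hz1, eu⟩ := mem_sup_of_normal_right.1 (hle u.2)
    obtain ⟨v', hv', z2, hz2, ev⟩ := mem_sup_of_normal_right.1 (hle v.2)
    rw [← eu, ← ev, Schur.commutatorElement_mul_center (hc hz1) (hc hz2)]
    exact commutator_mem_zpowers hA hB hu' hv'
  obtain ⟨n, hn⟩ := mem_subgroupOf.1 (hcomm hy)
  have hn' : ⁅A, B⁆ ^ n = (y : Γ) := hn
  refine Subtype.ext ?_
  rw [Subgroup.coe_one, ← hn']
  exact hk n (by rw [hn']; exact hy1)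

/-- An element commuting with `σ X` up to a central kernel gives a central commutator. -/
theorem commutator_mem_ker (σ : Γ →* G) {X Y : Γ} (h : σ X * σ Y = σ Y * σ X) : ⁅X, Y⁆ ∈ σ.ker := by
  rw [MonoidHom.mem_ker, map_commutatorElement, commutatorElement_eq_one_iff_mul_comm]
  exact h

/-- Extraspecial case: an element inverts the two generators modulo their commutator. -/
theorem not_dvd_of_inverted [Finite Γ] {p : ℕ} [hp : Fact p.Prime] (hp2 : p ≠ 2) (σ : Γ →* G)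
    (hs : Function.Surjective σ) (hc : σ.ker ≤ center Γ) (hd : σ.ker ≤ _root_.commutator Γ)
    (Q : Sylow p G) (a b h : G) (hQ : (Q : Subgroup G) = closure {a, b}) (ha : a ^ p = 1)
    (hb : b ^ p = 1) (hza : a * ⁅a, b⁆ = ⁅a, b⁆ * a) (hzb : b * ⁅a, b⁆ = ⁅a, b⁆ * b)
    (hz : ⁅a, b⁆ ≠ 1) {i j : ℕ} (hha : h * a * h⁻¹ = a⁻¹ * ⁅a, b⁆ ^ i)
    (hhb : h * b * h⁻¹ = b⁻¹ * ⁅a, b⁆ ^ j) : ¬ p ∣ Nat.card σ.ker := by
  obtain ⟨A, rfl⟩ := hs a
  obtain ⟨B, rfl⟩ := hs b
  obtain ⟨H, rfl⟩ := hs h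
  set z := ⁅σ A, σ B⁆ with hzdef
  set c := ⁅A, B⁆ with hcdef
  have hσc : σ c = z := map_commutatorElement σ A B
  have cen : ∀ {k : Γ}, k ∈ σ.ker → ∀ g, g * k = k * g := fun hk g => mem_center_iff.1 (hc hk) g
  -- the conjugate of the commutator
  have hσHc : σ (H * c * H⁻¹) = σ c := by
    have e : σ (H * c * H⁻¹) = ⁅(σ A)⁻¹ * z ^ i, (σ B)⁻¹ * z ^ j⁆ := by
      rw [map_mul, map_mul, map_inv, hσc, hzdef, ← hha, ← hhb]
      simp only [commutatorElement_def]; group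
    have ca : Commute (σ A)⁻¹ z := (Commute.inv_left (show Commute (σ A) z from hza))
    have cb : Commute (σ B)⁻¹ z := (Commute.inv_left (show Commute (σ B) z from hzb))
    rw [e, hσc, commutatorElement_def, mul_inv_rev, mul_inv_rev, inv_inv, inv_inv]
    calc (σ A)⁻¹ * z ^ i * ((σ B)⁻¹ * z ^ j) * ((z ^ i)⁻¹ * σ A) * ((z ^ j)⁻¹ * σ B)
        = (σ A)⁻¹ * (z ^ i * (σ B)⁻¹) * ((z ^ j * (z ^ i)⁻¹) * σ A) * ((z ^ j)⁻¹ * σ B) := by group
      _ = (σ A)⁻¹ * ((σ B)⁻¹ * z ^ i) * (σ A * (z ^ j * (z ^ i)⁻¹)) * ((z ^ j)⁻¹ * σ B) := by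
          rw [(cb.pow_right i).eq,
            (((show Commute (σ A) z from hza).pow_right j).mul_right
              ((show Commute (σ A) z from hza).pow_right i).inv_right).eq]
      _ = (σ A)⁻¹ * (σ B)⁻¹ * (z ^ i * σ A) * (z ^ i)⁻¹ * σ B := by group
      _ = (σ A)⁻¹ * (σ B)⁻¹ * (σ A * z ^ i) * (z ^ i)⁻¹ * σ B := by
          rw [((show Commute (σ A) z from hza).pow_right i).eq]
      _ = (σ A)⁻¹ * ((σ B)⁻¹ * z * σ B) * σ A := by
          rw [hzdef, commutatorElement_def]; group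
      _ = z := by
          rw [cb.eq, inv_mul_cancel_right, ca.eq, inv_mul_cancel_right]
  obtain ⟨k3, hk3, eH⟩ : ∃ k ∈ σ.ker, H * c * H⁻¹ = c * k :=
    ⟨c⁻¹ * (H * c * H⁻¹), by rw [MonoidHom.mem_ker, map_mul, map_inv, hσHc, inv_mul_cancel], by group⟩
  -- the two commutators with the commutator are trivial
  have key : ∀ (X : Γ) (n : ℕ), σ X * z = z * σ X → σ X ^ p = 1 →
      σ H * σ X * (σ H)⁻¹ = (σ X)⁻¹ * z ^ n → X * c = c * X := by
    intro X n hXz hXp hHX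
    have hd1 : ⁅X, c⁆ ∈ σ.ker := commutator_mem_ker σ (by rw [hσc]; exact hXz)
    set d := ⁅X, c⁆ with hddef
    have hX : X * c * X⁻¹ = d * c := by rw [hddef, commutatorElement_def]; group
    obtain ⟨k1, hk1, eX⟩ : ∃ k ∈ σ.ker, H * X * H⁻¹ = X⁻¹ * c ^ n * k :=
      ⟨(X⁻¹ * c ^ n)⁻¹ * (H * X * H⁻¹), by
        rw [MonoidHom.mem_ker, map_mul, map_inv, map_mul, map_inv, map_pow, map_mul, map_mul, map_inv,
          hσc, hHX, inv_mul_cancel], by group⟩
    have hXi : X⁻¹ * c * X = d⁻¹ * c := by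
      calc X⁻¹ * c * X = X⁻¹ * (d⁻¹ * (X * c * X⁻¹)) * X := by rw [hX]; group
        _ = d⁻¹ * (X⁻¹ * (X * c * X⁻¹) * X) := by
            rw [← mul_assoc X⁻¹, cen (inv_mem hd1) X⁻¹]; group
        _ = d⁻¹ * c := by group
    have hdd : d = d⁻¹ := by
      calc d = H * d * H⁻¹ := by rw [cen hd1 H, mul_inv_cancel_right]
        _ = ⁅H * X * H⁻¹, H * c * H⁻¹⁆ := by simp only [hddef, commutatorElement_def]; group
        _ = ⁅X⁻¹ * c ^ n, c⁆ := by rw [eX, eH, Schur.commutatorElement_mul_center (hc hk1) (hc hk3)]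
        _ = X⁻¹ * c * X * c⁻¹ := by simp only [commutatorElement_def]; group
        _ = d⁻¹ := by rw [hXi, mul_inv_cancel_right]
    have hpow : ∀ m : ℕ, X ^ m * c * (X ^ m)⁻¹ = d ^ m * c := by
      intro m
      induction m with
      | zero => simp
      | succ m ih =>
        calc X ^ (m + 1) * c * (X ^ (m + 1))⁻¹ = X * (X ^ m * c * (X ^ m)⁻¹) * X⁻¹ := by
              rw [pow_succ' X m]; group
          _ = d ^ m * (X * c * X⁻¹) := by
              rw [ih, ← mul_assoc X, cen (pow_mem hd1 m) X]; group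
          _ = d ^ (m + 1) * c := by rw [hX, pow_succ]; group
    have hdp : d ^ p = 1 := by
      have h1 := hpow p
      have hk : X ^ p ∈ σ.ker := by rw [MonoidHom.mem_ker, map_pow]; exact hXp
      rw [← cen hk c, mul_inv_cancel_right] at h1
      exact mul_eq_right.1 h1.symm
    have hd2 : d ^ 2 = 1 := by rw [pow_two]; exact mul_eq_one_iff_eq_inv.2 hdd
    have hd0 : d = 1 := by
      rw [← orderOf_eq_one_iff]
      exact Nat.eq_one_of_dvd_coprimes ((Nat.coprime_primes hp.out Nat.prime_two).2 hp2)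
        (orderOf_dvd_of_pow_eq_one hdp) (orderOf_dvd_of_pow_eq_one hd2)
    exact commutatorElement_eq_one_iff_mul_comm.1 (hddef.symm.trans hd0)
  have hA := key A i hza ha hha
  have hB := key B j hzb hb hhb
  have hcp : c ^ p = 1 := by
    have hk : A ^ p ∈ σ.ker := by rw [MonoidHom.mem_ker, map_pow]; exact ha
    have hAB : A * B * A⁻¹ = c * B := by rw [hcdef, commutatorElement_def]; group
    have hpow : ∀ m : ℕ, A ^ m * B * (A ^ m)⁻¹ = c ^ m * B := by
      intro m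
      induction m with
      | zero => simp
      | succ m ih =>
        calc A ^ (m + 1) * B * (A ^ (m + 1))⁻¹ = A * (A ^ m * B * (A ^ m)⁻¹) * A⁻¹ := by
              rw [pow_succ' A m]; group
          _ = c ^ m * (A * B * A⁻¹) := by
              rw [ih, ← mul_assoc A, ((show Commute A c from hA).pow_right m).eq]; group
          _ = c ^ (m + 1) * B := by rw [hAB, pow_succ]; group
    have h1 := hpow p
    rw [← cen hk B, mul_inv_cancel_right] at h1
    exact mul_eq_right.1 h1.symm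
  refine not_dvd_of_lifts σ hs hc hd Q hQ hA hB fun n hn => ?_
  rw [map_zpow, hσc] at hn
  have hzo : orderOf z = p := by
    refine orderOf_eq_prime ?_ hz
    rw [← hσc, ← map_pow, hcp, map_one]
  obtain ⟨q, rfl⟩ : (p : ℤ) ∣ n := by rw [← hzo]; exact orderOf_dvd_iff_zpow_eq_one.2 hn
  rw [zpow_mul, zpow_natCast, hcp, one_zpow]

/-- Abelian case: an element fixes one generator and raises the other to a power. -/
theorem not_dvd_of_reflected [Finite Γ] {p : ℕ} [hp : Fact p.Prime] (σ : Γ →* G)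
    (hs : Function.Surjective σ) (hc : σ.ker ≤ center Γ) (hd : σ.ker ≤ _root_.commutator Γ)
    (Q : Sylow p G) (a b h : G) (hQ : (Q : Subgroup G) = closure {a, b}) (hab : a * b = b * a)
    (hb : b ^ p = 1) {l : ℕ} (hl : Nat.Coprime (l - 1) p) (hl1 : 1 ≤ l)
    (hha : h * a * h⁻¹ = a) (hhb : h * b * h⁻¹ = b ^ l) : ¬ p ∣ Nat.card σ.ker := by
  obtain ⟨A, rfl⟩ := hs a
  obtain ⟨B, rfl⟩ := hs b
  obtain ⟨H, rfl⟩ := hs h
  have hcK : ⁅A, B⁆ ∈ σ.ker := commutator_mem_ker σ hab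
  have cen : ∀ {k : Γ}, k ∈ σ.ker → ∀ g, g * k = k * g := fun hk g => mem_center_iff.1 (hc hk) g
  have hbil : ∀ m : ℕ, ⁅A, B ^ m⁆ = ⁅A, B⁆ ^ m := by
    intro m
    induction m with
    | zero => simp
    | succ m ih =>
      rw [pow_succ' B m, show ⁅A, B * B ^ m⁆ = ⁅A, B⁆ * (B * ⁅A, B ^ m⁆ * B⁻¹) by
        simp only [commutatorElement_def]; group, ih, cen (pow_mem hcK m) B, mul_inv_cancel_right,
        pow_succ']
  obtain ⟨k1, hk1, eA⟩ : ∃ k ∈ σ.ker, H * A * H⁻¹ = A * k :=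
    ⟨A⁻¹ * (H * A * H⁻¹), by simp only [MonoidHom.mem_ker, map_mul, map_inv, hha, inv_mul_cancel],
      by group⟩
  obtain ⟨k2, hk2, eB⟩ : ∃ k ∈ σ.ker, H * B * H⁻¹ = B ^ l * k :=
    ⟨(B ^ l)⁻¹ * (H * B * H⁻¹), by
      simp only [MonoidHom.mem_ker, map_mul, map_inv, map_pow, hhb, inv_mul_cancel], by group⟩
  have hl' : ⁅A, B⁆ = ⁅A, B⁆ ^ l := by
    calc ⁅A, B⁆ = H * ⁅A, B⁆ * H⁻¹ := by rw [cen hcK H, mul_inv_cancel_right]
      _ = ⁅H * A * H⁻¹, H * B * H⁻¹⁆ := by simp only [commutatorElement_def]; group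
      _ = ⁅A, B ^ l⁆ := by rw [eA, eB, Schur.commutatorElement_mul_center (hc hk1) (hc hk2)]
      _ = ⁅A, B⁆ ^ l := hbil l
  have hcp : ⁅A, B⁆ ^ p = 1 := by
    rw [← hbil]
    exact commutatorElement_eq_one_iff_mul_comm.2 (cen (by rw [MonoidHom.mem_ker, map_pow]; exact hb) A)
  have hc0 : ⁅A, B⁆ = 1 := by
    rw [← orderOf_eq_one_iff]
    refine Nat.eq_one_of_dvd_coprimes hl.symm (orderOf_dvd_of_pow_eq_one hcp)
      (orderOf_dvd_of_pow_eq_one ?_)
    have : ⁅A, B⁆ ^ (l - 1) * ⁅A, B⁆ = 1 * ⁅A, B⁆ := by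
      rw [← pow_succ, Nat.sub_add_cancel hl1, one_mul, ← hl']
    exact mul_right_cancel this
  exact not_dvd_of_lifts σ hs hc hd Q hQ (cen hcK A) (cen hcK B) fun n _ => by rw [hc0, one_zpow]

end CfsgLib.SchurPerm
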