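import Cfsg.Agent.Lib.Comp.PermChain
import Cfsg.Agent.Lib.SchurPerm.OddPrime
import Cfsg.Agent.Lib.SchurPerm.Stem
import Cfsg.Agent.Lib.Schur.TailBound

/-!
Certificates for multipliers of order 2 of permutation groups given by coded generators and a
membership test.
-/

set_option autoImplicit false

namespace CfsgLib.SchurPerm

open CfsgLib.Comp CfsgLib.SchurTail Subgroup
open scoped commutatorElement

/-- A membership test in a permutation group. -/
structure Test (n : ℕ) where
  le : n ≤ 256
  /-- The group. -/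
  S : Subgroup (Equiv.Perm (Fin n))
  /-- The test. -/
  ok : ℕ → Bool
  sound : ∀ c, ok c = true → PermCode.Ok n c ∧ PermCode.val n c ∈ S

variable {n : ℕ} (τ : Test n)

/-- The element with a given code. -/
noncomputable def el (c : ℕ) : τ.S :=
  if h : τ.ok c = true then ⟨PermCode.val n c, (τ.sound c h).2⟩ else 1

theorem coe_el {c : ℕ} (h : τ.ok c = true) : (el τ c : Equiv.Perm (Fin n)) = PermCode.val n c := by
  rw [el, dif_pos h]

/-- The code of a product. -/
noncomputable def prodc (n : ℕ) (l : List ℕ) : ℕ :=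
  l.foldr (fun a b => PermCode.mul n a b) (PermCode.one n)

/-- The product of the elements with given codes. -/
noncomputable def elw (l : List ℕ) : τ.S := (l.map (el τ)).prod

theorem prodc_spec : ∀ {l : List ℕ}, l.all τ.ok = true →
    PermCode.Ok n (prodc n l) ∧ (elw τ l : Equiv.Perm (Fin n)) = PermCode.val n (prodc n l)
  | [], _ => by
    refine ⟨PermCode.ok_one τ.le, ?_⟩
    show ((1 : τ.S) : Equiv.Perm (Fin n)) = PermCode.val n (PermCode.one n)
    rw [PermCode.val_one τ.le, Subgroup.coe_one]
  | a :: l, h => by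
    rw [List.all_cons, Bool.and_eq_true] at h
    obtain ⟨h1, h2⟩ := prodc_spec h.2
    have ha := (τ.sound a h.1).1
    show PermCode.Ok n (PermCode.mul n a (prodc n l)) ∧
      (elw τ (a :: l) : Equiv.Perm (Fin n)) = PermCode.val n (PermCode.mul n a (prodc n l))
    refine ⟨PermCode.ok_mul τ.le ha h1, ?_⟩
    rw [PermCode.val_mul τ.le ha h1, ← h2, ← coe_el τ h.1, elw, elw, List.map_cons, List.prod_cons,
      coe_mul]

/-- The check of an equation between products. -/
noncomputable def eqw (l r : List ℕ) : Bool :=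
  l.all τ.ok && (r.all τ.ok && Nat.beq (prodc n l) (prodc n r))

variable {τ}

theorem eqw_spec {l r : List ℕ} (h : eqw τ l r = true) : elw τ l = elw τ r := by
  simp only [eqw, Bool.and_eq_true] at h
  obtain ⟨hl, hr, he⟩ := h
  exact Subtype.ext (by rw [(prodc_spec τ hl).2, (prodc_spec τ hr).2, Nat.eq_of_beq_eq_true he])

theorem build_congr : ∀ (k : ℕ) (f g : ℕ → ℕ), (∀ i, i < k → f i = g i) →
    PermCode.build k f = PermCode.build k g
  | 0, _, _, _ => rfl
  | k + 1, f, g, h => by
    rw [PermCode.build_succ, PermCode.build_succ, build_congr k f g fun i hi => h i (by omega),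
      h k (by omega)]

theorem prodc_inj {l r : List ℕ} (hl : l.all τ.ok = true) (hr : r.all τ.ok = true)
    (h : elw τ l = elw τ r) : prodc n l = prodc n r := by
  have build : ∀ l : List ℕ, ∃ f : ℕ → ℕ, prodc n l = PermCode.build n f ∧
      (l.all τ.ok = true → ∀ i, i < n → f i < 256) := by
    intro l
    match l with
    | [] => exact ⟨fun i => i, rfl, fun _ i hi => lt_of_lt_of_le hi τ.le⟩
    | a :: l =>
      refine ⟨_, PermCode.mul_eq_build n a (prodc n l), fun h i hi => ?_⟩
      rw [List.all_cons, Bool.and_eq_true] at h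
      exact lt_of_lt_of_le ((τ.sound a h.1).1.1 _ ((prodc_spec τ h.2).1.1 i hi)) τ.le
  obtain ⟨f, ef, bf⟩ := build l
  obtain ⟨g, eg, bg⟩ := build r
  rw [ef, eg]
  refine build_congr n f g fun i hi => ?_
  have e := congrArg (fun x : τ.S => (((x : Equiv.Perm (Fin n)) ⟨i, hi⟩ : Fin n) : ℕ)) h
  simp only [(prodc_spec τ hl).2, (prodc_spec τ hr).2,
    PermCode.val_apply (prodc_spec τ hl).1, PermCode.val_apply (prodc_spec τ hr).1] at e
  rw [ef, eg, PermCode.get_build n f (bf hl) i hi, PermCode.get_build n g (bg hr) i hi] at e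
  exact e

/-- Strictly increasing lists. -/
noncomputable def incr : List ℕ → Bool
  | [] => true
  | [_] => true
  | a :: b :: l => Nat.blt a b && incr (b :: l)

theorem incr_pairwise : ∀ {l : List ℕ}, incr l = true → l.Pairwise (· < ·)
  | [], _ => List.Pairwise.nil
  | [a], _ => List.pairwise_singleton _ _
  | a :: b :: l, h => by
    simp only [incr, Bool.and_eq_true, Nat.blt_eq] at h
    have hp := incr_pairwise h.2
    rw [List.pairwise_cons]
    refine ⟨fun x hx => ?_, hp⟩
    rcases List.mem_cons.1 hx with rfl | hx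
    · exact h.1
    · exact lt_trans h.1 ((List.pairwise_cons.1 hp).1 x hx)

/-! ### Listed subgroups with two generators -/

variable (τ)

/-- Words in two elements, their number being the order of the subgroup these generate. -/
noncomputable def listCheck (a b : ℕ) (L : List (List ℕ)) : Bool :=
  τ.ok a && (τ.ok b && ((L.all fun w => w.all fun c => Nat.beq c a || Nat.beq c b) &&
  (L.contains [] && (incr (L.map (prodc n)) &&
  L.all fun w => (L.map (prodc n)).contains (prodc n (w ++ [a])) &&
    (L.map (prodc n)).contains (prodc n (w ++ [b]))))))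

variable {τ}

theorem card_of_list [Finite τ.S] {a b : ℕ} {L : List (List ℕ)} (h : listCheck τ a b L = true) :
    Nat.card (closure ({el τ a, el τ b} : Set τ.S)) = L.length := by
  classical
  simp only [listCheck, Bool.and_eq_true, List.all_eq_true, List.contains_iff_mem, Bool.or_eq_true]
    at h
  obtain ⟨ha, hb, hlet, hnil, hincr, hclosed⟩ := h
  have hok : ∀ w ∈ L, w.all τ.ok = true := fun w hw => List.all_eq_true.2 fun c hc => by
    rcases hlet w hw c hc with e | e <;> rw [Nat.eq_of_beq_eq_true e] <;> assumption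
  let T : Set τ.S := {x | ∃ w ∈ L, x = elw τ w}
  have hstep : ∀ w ∈ L, ∀ c, (c = a ∨ c = b) → elw τ w * el τ c ∈ T := by
    intro w hw c hc
    have hm : prodc n (w ++ [c]) ∈ L.map (prodc n) := by
      rcases hc with rfl | rfl
      exacts [(hclosed w hw).1, (hclosed w hw).2]
    obtain ⟨v, hv, e⟩ := List.mem_map.1 hm
    have hwc : (w ++ [c]).all τ.ok = true := by
      rw [List.all_append, hok w hw]
      rcases hc with rfl | rfl <;> simp [ha, hb]
    refine ⟨v, hv, ?_⟩
    have : elw τ v = elw τ (w ++ [c]) :=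
      Subtype.ext (by rw [(prodc_spec τ (hok v hv)).2, (prodc_spec τ hwc).2, e])
    rw [this]
    simp [elw]
  have hcl : (closure ({el τ a, el τ b} : Set τ.S) : Set τ.S) ⊆ T := by
    let M : Submonoid τ.S :=
      { carrier := {y | ∀ x ∈ T, x * y ∈ T}
        one_mem' := fun x hx => by simpa using hx
        mul_mem' := fun {p q} hp hq x hx => by rw [← mul_assoc]; exact hq _ (hp x hx) }
    let M' : Subgroup τ.S :=
      { M with
        inv_mem' := fun {y} hy => by
          rw [show y⁻¹ = y ^ (orderOf y - 1) from inv_eq_of_mul_eq_one_left (by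
            rw [← pow_succ, Nat.sub_add_cancel (orderOf_pos y), pow_orderOf_eq_one])]
          exact M.pow_mem hy _ }
    have hle : closure ({el τ a, el τ b} : Set τ.S) ≤ M' := (closure_le _).2 (by
      rintro y (rfl | rfl) <;> rintro x ⟨w, hw, rfl⟩
      exacts [hstep w hw a (Or.inl rfl), hstep w hw b (Or.inr rfl)])
    intro y hy
    have h1 := hle hy 1 ⟨[], hnil, rfl⟩
    rwa [one_mul] at h1
  have hmem : ∀ w ∈ L, elw τ w ∈ closure ({el τ a, el τ b} : Set τ.S) := fun w hw =>
    list_prod_mem fun x hx => by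
      obtain ⟨c, hc, rfl⟩ := List.mem_map.1 hx
      rcases hlet w hw c hc with e | e <;> rw [Nat.eq_of_beq_eq_true e] <;>
        exact subset_closure (by simp)
  have hnd : (L.map (elw τ)).Nodup := by
    have h : (L.map (prodc n)).Nodup := (incr_pairwise hincr).imp fun h => Nat.ne_of_lt h
    rw [List.Nodup, List.pairwise_map] at h ⊢
    exact List.Pairwise.imp_of_mem (fun {v w} hv hw hne e => hne (prodc_inj (hok v hv) (hok w hw) e)) h
  have hset : (closure ({el τ a, el τ b} : Set τ.S) : Set τ.S) = ↑(L.map (elw τ)).toFinset := by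
    ext x
    rw [List.coe_toFinset, Set.mem_setOf_eq, List.mem_map]
    constructor
    · intro hx; obtain ⟨w, hw, rfl⟩ := hcl hx; exact ⟨w, hw, rfl⟩
    · rintro ⟨w, hw, rfl⟩; exact hmem w hw
  rw [← SetLike.coe_sort_coe, Nat.card_coe_set_eq, hset, Set.ncard_coe_finset,
    List.toFinset_card_of_nodup hnd, List.length_map]

/-- The commutator word of two elements of order dividing `p`. -/
def commWord (p a b : ℕ) : List ℕ := [a, b] ++ List.replicate (p - 1) a ++ List.replicate (p - 1) b

/-- The data for an odd prime with extraspecial Sylow subgroup. -/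
structure Extra where
  /-- The first generator. -/
  a : ℕ
  /-- The second generator. -/
  b : ℕ
  /-- The inverting element. -/
  h : ℕ
  /-- The exponent for the first. -/
  i : ℕ
  /-- The exponent for the second. -/
  j : ℕ
  /-- The elements. -/
  L : List (List ℕ)

/-- The data for an odd prime with abelian Sylow subgroup. -/
structure Abel where
  /-- The fixed generator. -/
  a : ℕ
  /-- The inverted generator. -/
  b : ℕ
  /-- The reflecting element. -/
  h : ℕ
  /-- The elements. -/
  L : List (List ℕ)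

variable (τ)

/-- The check in the extraspecial case. -/
noncomputable def extraCheck (p : ℕ) (D : Extra) : Bool :=
  listCheck τ D.a D.b D.L && (eqw τ (List.replicate p D.a) [] && (eqw τ (List.replicate p D.b) [] &&
  (eqw τ (D.a :: commWord p D.a D.b) (commWord p D.a D.b ++ [D.a]) &&
  (eqw τ (D.b :: commWord p D.a D.b) (commWord p D.a D.b ++ [D.b]) &&
  (!eqw τ (commWord p D.a D.b) [] &&
  (eqw τ [D.h, D.a]
    (List.replicate (p - 1) D.a ++ (List.replicate D.i (commWord p D.a D.b)).flatten ++ [D.h]) &&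
  eqw τ [D.h, D.b]
    (List.replicate (p - 1) D.b ++ (List.replicate D.j (commWord p D.a D.b)).flatten ++ [D.h])))))))

/-- The check in the abelian case. -/
noncomputable def abelCheck (p : ℕ) (D : Abel) : Bool :=
  listCheck τ D.a D.b D.L && (eqw τ (List.replicate p D.b) [] && (eqw τ [D.a, D.b] [D.b, D.a] &&
  (eqw τ [D.h, D.a] [D.a, D.h] && eqw τ [D.h, D.b] (List.replicate (p - 1) D.b ++ [D.h]))))

variable {τ}

theorem elw_append (l r : List ℕ) : elw τ (l ++ r) = elw τ l * elw τ r := by simp [elw]

theorem elw_cons (a : ℕ) (l : List ℕ) : elw τ (a :: l) = el τ a * elw τ l := by simp [elw]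

theorem elw_replicate (k a : ℕ) : elw τ (List.replicate k a) = el τ a ^ k := by simp [elw]

theorem elw_flatten (k : ℕ) (l : List ℕ) :
    elw τ (List.replicate k l).flatten = elw τ l ^ k := by
  induction k with
  | zero => simp [elw]
  | succ k ih => rw [List.replicate_succ, List.flatten_cons, elw_append, ih, pow_succ']

theorem pow_pred_eq_inv {G : Type*} [Group G] {x : G} {p : ℕ} (hp : 1 ≤ p) (h : x ^ p = 1) :
    x ^ (p - 1) = x⁻¹ :=
  eq_inv_of_mul_eq_one_left (by rw [← pow_succ, Nat.sub_add_cancel hp, h])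

variable {Γ : Type} [Group Γ] [Finite Γ] (σ : Γ →* τ.S) (hs : Function.Surjective σ)
  (hc : σ.ker ≤ center Γ) (hd : σ.ker ≤ _root_.commutator Γ)

include hs hc hd in
theorem not_dvd_extra [Finite τ.S] {p k : ℕ} [hp : Fact p.Prime] (hp2 : p ≠ 2) {D : Extra}
    (h : extraCheck τ p D = true) (hL : D.L.length = p ^ k) {N : ℕ} (hN : Nat.card τ.S = N)
    (hNp : ¬ p ∣ N / p ^ k) : ¬ p ∣ Nat.card σ.ker := by
  simp only [extraCheck, Bool.and_eq_true, Bool.not_eq_true'] at h
  obtain ⟨hlist, hap, hbp, hza, hzb, hz, hha, hhb⟩ := h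
  have hok : D.L.length = p ^ k := hL
  have ha : el τ D.a ^ p = 1 := by rw [← elw_replicate]; exact eqw_spec hap
  have hb : el τ D.b ^ p = 1 := by rw [← elw_replicate]; exact eqw_spec hbp
  have hab := hlist
  simp only [listCheck, Bool.and_eq_true] at hab
  have hw : elw τ (commWord p D.a D.b) = ⁅el τ D.a, el τ D.b⁆ := by
    rw [commWord, elw_append, elw_append, elw_replicate, elw_replicate,
      pow_pred_eq_inv hp.out.one_le ha, pow_pred_eq_inv hp.out.one_le hb, commutatorElement_def]
    simp [elw]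
  have hz' : ⁅el τ D.a, el τ D.b⁆ ≠ 1 := by
    rw [← hw]
    intro e
    have hall : (commWord p D.a D.b).all τ.ok = true := by
      simp [commWord, hab.1, hab.2.1]
    have := prodc_inj hall (r := []) rfl (e.trans (by simp [elw]))
    have hq : eqw τ (commWord p D.a D.b) [] = true := by
      simp only [eqw, hall, List.all_nil, Bool.true_and, this]
      exact Nat.beq_refl _
    rw [hz] at hq
    exact Bool.noConfusion hq
  let K : Subgroup τ.S := closure {el τ D.a, el τ D.b}
  have hK : Nat.card K = p ^ k := (card_of_list hlist).trans hok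
  have hidx : ¬ p ∣ K.index := by
    have := K.card_mul_index
    rw [hK, hN] at this
    rwa [← this, Nat.mul_div_cancel_left _ (pow_pos hp.out.pos k)] at hNp
  have e1 := eqw_spec hza
  have e2 := eqw_spec hzb
  rw [elw_cons, elw_append, hw] at e1 e2
  simp only [elw, List.map_cons, List.map_nil, List.prod_cons, List.prod_nil, mul_one] at e1 e2
  have conj : ∀ (x i : ℕ), el τ x ^ p = 1 →
      eqw τ [D.h, x]
        (List.replicate (p - 1) x ++ (List.replicate i (commWord p D.a D.b)).flatten ++ [D.h]) = true →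
      el τ D.h * el τ x * (el τ D.h)⁻¹ = (el τ x)⁻¹ * ⁅el τ D.a, el τ D.b⁆ ^ i := by
    intro x i hx h
    have e := eqw_spec h
    rw [elw_append, elw_append, elw_flatten, hw, elw_replicate, pow_pred_eq_inv hp.out.one_le hx] at e
    simp only [elw, List.map_cons, List.map_nil, List.prod_cons, List.prod_nil, mul_one] at e
    rw [e, mul_inv_cancel_right]
  exact not_dvd_of_inverted hp2 σ hs hc hd ((IsPGroup.of_card hK).toSylow hidx) _ _ (el τ D.h) rfl
    ha hb e1 e2 hz' (conj D.a D.i ha hha) (conj D.b D.j hb hhb)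

include hs hc hd in
theorem not_dvd_abel [Finite τ.S] {p k : ℕ} [hp : Fact p.Prime] (hp2 : p ≠ 2) {D : Abel}
    (h : abelCheck τ p D = true) (hL : D.L.length = p ^ k) {N : ℕ} (hN : Nat.card τ.S = N)
    (hNp : ¬ p ∣ N / p ^ k) : ¬ p ∣ Nat.card σ.ker := by
  simp only [abelCheck, Bool.and_eq_true] at h
  obtain ⟨hlist, hbp, hab, hha, hhb⟩ := h
  have hb : el τ D.b ^ p = 1 := by rw [← elw_replicate]; exact eqw_spec hbp
  let K : Subgroup τ.S := closure {el τ D.a, el τ D.b}
  have hK : Nat.card K = p ^ k := (card_of_list hlist).trans hL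
  have hidx : ¬ p ∣ K.index := by
    have := K.card_mul_index
    rw [hK, hN] at this
    rwa [← this, Nat.mul_div_cancel_left _ (pow_pos hp.out.pos k)] at hNp
  have e1 := eqw_spec hab
  have e2 := eqw_spec hha
  have e3 := eqw_spec hhb
  rw [elw_append, elw_replicate] at e3
  simp only [elw, List.map_cons, List.map_nil, List.prod_cons, List.prod_nil, mul_one] at e1 e2 e3
  have h3 : 3 ≤ p := by have := hp.out.two_le; omega
  refine not_dvd_of_reflected σ hs hc hd ((IsPGroup.of_card hK).toSylow hidx) _ _ (el τ D.h) rfl e1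
    hb (l := p - 1) ?_ (by omega) ?_ ?_
  · refine Nat.Coprime.symm ((hp.out.coprime_iff_not_dvd).2 fun hdvd => ?_)
    have := Nat.le_of_dvd (by omega) hdvd
    omega
  · rw [e2, mul_inv_cancel_right]
  · rw [e3, mul_inv_cancel_right]

/-! ### The prime two -/

variable (τ)

/-- The relations of a tail certificate. -/
noncomputable def relCheck (D : TailData) (ls gs : List ℕ) : Bool :=
  (D.rules.all fun r =>
    eqw τ [ls.getD r.1 0, ls.getD r.2.1 0] (r.2.2.map fun i => ls.getD i 0)) &&
  ((D.conjs.all fun c => eqw τ (gs.getD c.1 0 :: c.2.1.map fun i => ls.getD i 0)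
    ((c.2.2.map fun i => ls.getD i 0) ++ [gs.getD c.1 0])) &&
  ((D.defs.all fun d => eqw τ [ls.getD d.2.1 0, ls.getD d.2.2 0]
    [ls.getD d.1 0, ls.getD d.2.2 0, ls.getD d.2.1 0]) &&
  ((D.forms.all fun w => (w.map fun i => ls.getD i 0).all τ.ok) &&
  (incr (D.forms.map fun w => prodc n (w.map fun i => ls.getD i 0)) &&
  ((D.defs.all fun d => Nat.blt d.2.1 d.1 && (Nat.blt d.2.2 d.1 &&
    D.defs.all fun d' => !Nat.beq d.1 d'.1 || decide (d = d'))) &&
  ((D.derived.all fun d => decide (d < D.n)) && (D.forms.contains [] && (D.dforms.contains [] &&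
  D.dforms.all fun w => D.forms.contains w))))))))

/-- Twice the distinguished tail vanishes. -/
def twoCheck (D : TailData) (two : List (ℕ × ℤ)) : Bool :=
  (List.range D.N).all fun j => decide (combVec D.eqs two j = if j = D.k then 2 else 0)

variable {τ}

include hs hc hd in
theorem two_part_coded (D : TailData) {ls gs : List ℕ} {two : List (ℕ × ℤ)}
    (hrel : relCheck τ D ls gs = true) (hlin : D.checkLin = true) (htwo : twoCheck D two = true)
    (hforms : D.checkForms = true) {m : ℕ} (hlen : D.forms.length = 2 ^ m)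
    (hG : (Nat.card τ.S).factorization 2 = m) :
    ∃ z₀ : Γ, z₀ ^ 2 = 1 ∧ ∀ z ∈ σ.ker, ∀ j : ℕ, z ^ 2 ^ j = 1 → z ∈ zpowers z₀ := by
  classical
  simp only [relCheck, Bool.and_eq_true, List.all_eq_true, List.contains_iff_mem,
    decide_eq_true_eq, Nat.blt_eq] at hrel
  obtain ⟨hrules, hconj, hdefs, hok, hincr, hord, hder, hnil, hnil', hsub⟩ := hrel
  choose lift hlift using fun c : ℕ => hs (el τ c)
  let lc : ℕ → ℕ := fun i => ls.getD i 0
  let gc : ℕ → ℕ := fun i => gs.getD i 0
  let F : ℕ → ℕ → Γ := fun f => Nat.rec (fun i => lift (lc i))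
    (fun _ prev i => match D.defs.find? (fun d : ℕ × ℕ × ℕ => Nat.beq d.1 i) with
      | some d => ⁅prev d.2.1, prev d.2.2⁆
      | none => lift (lc i)) f
  have hF : ∀ f i, F (f + 1) i = match D.defs.find? (fun d : ℕ × ℕ × ℕ => Nat.beq d.1 i) with
      | some d => ⁅F f d.2.1, F f d.2.2⁆
      | none => lift (lc i) := fun f i => rfl
  have hfind : ∀ d ∈ D.defs,
      D.defs.find? (fun d' : ℕ × ℕ × ℕ => Nat.beq d'.1 d.1) = some d := by
    intro d hd
    cases h : D.defs.find? (fun d' : ℕ × ℕ × ℕ => Nat.beq d'.1 d.1) with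
    | none => simpa using List.find?_eq_none.1 h d hd
    | some d' =>
      have hm := List.mem_of_find?_eq_some h
      have hb : Nat.beq d'.1 d.1 = true :=
        List.find?_some (p := fun d' : ℕ × ℕ × ℕ => Nat.beq d'.1 d.1) h
      have := (hord d' hm).2.2 d hd
      simp only [hb, Bool.not_true, Bool.false_or, decide_eq_true_eq] at this
      rw [this]
  have hstable : ∀ i f, i < f → ∀ g, i < g → F f i = F g i := by
    intro i
    induction i using Nat.strong_induction_on with
    | _ i ih =>
      intro f hf g hg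
      obtain ⟨f, rfl⟩ : ∃ q, f = q + 1 := ⟨f - 1, by omega⟩
      obtain ⟨g, rfl⟩ : ∃ q, g = q + 1 := ⟨g - 1, by omega⟩
      rw [hF, hF]
      split
      · next d hd =>
        have hm := List.mem_of_find?_eq_some hd
        obtain rfl := Nat.eq_of_beq_eq_true
          (List.find?_some (p := fun d : ℕ × ℕ × ℕ => Nat.beq d.1 i) hd)
        obtain ⟨h1, h2, -⟩ := hord d hm
        rw [ih _ h1 f (by omega) g (by omega), ih _ h2 f (by omega) g (by omega)]
      · rfl
  let L : ℕ → Γ := fun i => F (i + 1) i
  have hdefL : ∀ d ∈ D.defs, L d.1 = ⁅L d.2.1, L d.2.2⁆ := by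
    intro d hd
    obtain ⟨h1, h2, -⟩ := hord d hd
    show F (d.1 + 1) d.1 = _
    rw [hF, hfind d hd]
    show ⁅F d.1 d.2.1, F d.1 d.2.2⁆ = _
    rw [hstable _ _ h1 (d.2.1 + 1) (by omega), hstable _ _ h2 (d.2.2 + 1) (by omega)]
  have hσL : ∀ i, σ (L i) = el τ (lc i) := by
    intro i
    induction i using Nat.strong_induction_on with
    | _ i ih =>
      show σ (F (i + 1) i) = _
      rw [hF]
      split
      · next d hd =>
        have hm := List.mem_of_find?_eq_some hd
        obtain rfl := Nat.eq_of_beq_eq_true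
          (List.find?_some (p := fun d : ℕ × ℕ × ℕ => Nat.beq d.1 i) hd)
        obtain ⟨h1, h2, -⟩ := hord d hm
        have e := eqw_spec (hdefs d hm)
        simp only [elw, List.map_cons, List.map_nil, List.prod_cons, List.prod_nil, mul_one] at e
        rw [map_commutatorElement, hstable _ _ h1 (d.2.1 + 1) (by omega),
          hstable _ _ h2 (d.2.2 + 1) (by omega)]
        show ⁅σ (L d.2.1), σ (L d.2.2)⁆ = _
        rw [ih _ h1, ih _ h2, commutatorElement_def]
        simp only [lc]
        rw [e]
        group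
      · exact hlift _
  have hσW : ∀ w : List ℕ, σ (evW L w) = elw τ (w.map lc) := fun w => by
    simp [evW, elw, map_list_prod, hσL, Function.comp_def]
  let κf : ℕ → Γ := fun k =>
    if k < D.rules.length then
      (evW L (D.rules.getD k (0, 0, [])).2.2)⁻¹ *
        (L (D.rules.getD k (0, 0, [])).1 * L (D.rules.getD k (0, 0, [])).2.1)
    else if k - D.rules.length < D.conjs.length then
      (evW L (D.conjs.getD (k - D.rules.length) (0, [], [])).2.2)⁻¹ *
        (lift (gc (D.conjs.getD (k - D.rules.length) (0, [], [])).1) *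
          evW L (D.conjs.getD (k - D.rules.length) (0, [], [])).2.1 *
          (lift (gc (D.conjs.getD (k - D.rules.length) (0, [], [])).1))⁻¹)
    else 1
  have hκ : ∀ k, σ (κf k) = 1 := by
    intro k
    simp only [κf]
    split_ifs with h1 h2
    · have hmem : D.rules.getD k (0, 0, []) ∈ D.rules := by
        rw [List.getD_eq_getElem _ _ h1]; exact List.getElem_mem _
      have e : elw τ [lc (D.rules.getD k (0, 0, [])).1, lc (D.rules.getD k (0, 0, [])).2.1] =
          elw τ ((D.rules.getD k (0, 0, [])).2.2.map lc) := eqw_spec (hrules _ hmem)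
      simp only [map_mul, map_inv, hσL, hσW]
      rw [← e]
      simp [elw]
    · set c := D.conjs.getD (k - D.rules.length) (0, [], []) with hcdef
      have hmem : c ∈ D.conjs := by
        rw [hcdef, List.getD_eq_getElem _ _ h2]; exact List.getElem_mem _
      have e : elw τ (gc c.1 :: c.2.1.map lc) = elw τ (c.2.2.map lc ++ [gc c.1]) :=
        eqw_spec (hconj _ hmem)
      simp only [map_mul, map_inv, hσW, hlift]
      have e' : el τ (gc c.1) * elw τ (c.2.1.map lc) = elw τ (c.2.2.map lc) * el τ (gc c.1) := by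
        simpa [elw] using e
      rw [e', mul_inv_cancel_right, inv_mul_cancel]
    · exact map_one σ
  let κ : ℕ → center Γ := fun k => ⟨κf k, hc (hκ k)⟩
  have hR : Holds D.rules L κ := by
    intro k a b W hk
    obtain ⟨hk', e⟩ := List.getElem?_eq_some_iff.1 hk
    show L a * L b = evW L W * κf k
    simp only [κf, hk', if_true, List.getD_eq_getElem _ _ hk', e]
    rw [mul_inv_cancel_left]
  have hC : ConjHolds D.rules D.conjs L κ := by
    refine ⟨fun c => lift (gc c), fun p c U W hp => ?_⟩
    obtain ⟨hp', e⟩ := List.getElem?_eq_some_iff.1 hp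
    show lift (gc c) * evW L U * (lift (gc c))⁻¹ = evW L W * κf (D.rules.length + p)
    have h1 : ¬ D.rules.length + p < D.rules.length := by omega
    simp only [κf, h1, if_false, Nat.add_sub_cancel_left, hp', if_true,
      List.getD_eq_getElem _ _ hp', e]
    rw [mul_inv_cancel_left]
  have hinj : (D.forms.map fun w => evW (fun a => σ (L a)) w).Nodup := by
    have heq : ∀ w : List ℕ, evW (fun a => σ (L a)) w = elw τ (w.map lc) := fun w => by
      simp [evW, elw, hσL, Function.comp_def]
    have hnd : (D.forms.map fun w => prodc n (w.map lc)).Nodup :=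
      (incr_pairwise hincr).imp fun h => Nat.ne_of_lt h
    rw [List.Nodup, List.pairwise_map] at hnd ⊢
    refine List.Pairwise.imp_of_mem (fun {v w} hv hw hne e => hne ?_) hnd
    rw [heq, heq] at e
    exact prodc_inj (List.all_eq_true.2 (hok v hv)) (List.all_eq_true.2 (hok w hw)) e
  obtain ⟨-, hz⟩ := SchurTail.two_part hs hc hd D hR hC hκ hdefL hlin hforms hder ⟨hnil, hnil'⟩
    hinj hsub hlen hG
  refine ⟨_, ?_, hz⟩
  have hlin' := hlin
  simp only [TailData.checkLin, Bool.and_eq_true, List.all_eq_true, decide_eq_true_eq] at hlin'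
  obtain ⟨hsome, hbound, -, hkN, -⟩ := hlin'
  have hDefs : ∀ d ∈ D.defEqs, evW L d.1 = evW L d.2 := by
    intro d hd
    obtain ⟨⟨k, a, b⟩, he, rfl⟩ := List.mem_map.1 hd
    simp only [evW_cons, evW_nil, mul_one]
    rw [hdefL _ he, commutatorElement_def]
    group
  have heq : ∀ e ∈ D.eqs, evK κ e.1 = evK κ e.2 := by
    intro e he
    obtain ⟨s, hsm, rfl⟩ := List.mem_map.1 he
    obtain ⟨e', he'⟩ := Option.isSome_iff_exists.1 (hsome s hsm)
    rw [he', Option.getD_some]
    exact equation_spec hR hC hDefs he'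
  simp only [twoCheck, List.all_eq_true, decide_eq_true_eq] at htwo
  have h1 := φ_comb (κ := κ) D.N D.eqs (fun e he a ha => hbound e he a ha) heq two
  have h2 : φ κ D.N (combVec D.eqs two) = φ κ D.N (fun j => 2 * if j = D.k then 1 else 0) :=
    Finset.prod_congr rfl fun j hj => by
      rw [htwo j (List.mem_range.2 (Finset.mem_range.1 hj))]
      congr 1
      split <;> simp [*]
  rw [h2, φ_smul, φ_single D.N D.k hkN] at h1
  have := congrArg Subtype.val h1
  rw [Subgroup.coe_zpow, show (2 : ℤ) = (2 : ℕ) from rfl, zpow_natCast] at this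
  exact this

/-- The kernel has order dividing 2 when the 2-part is cyclic of order at most 2 and no odd prime
divides it. -/
theorem card_dvd_two {G : Type*} [Group G] {σ : Γ →* G}
    (h2 : ∃ z₀ : Γ, z₀ ^ 2 = 1 ∧ ∀ z ∈ σ.ker, ∀ j : ℕ, z ^ 2 ^ j = 1 → z ∈ zpowers z₀)
    (hodd : ∀ p : ℕ, p.Prime → p ≠ 2 → ¬ p ∣ Nat.card σ.ker) : Nat.card σ.ker ∣ 2 := by
  obtain ⟨z₀, hz₀, hz⟩ := h2
  have hn : Nat.card σ.ker ≠ 0 := Nat.card_pos.ne'
  obtain ⟨f, r, hr2, hfr⟩ : ∃ f r : ℕ, ¬ 2 ∣ r ∧ Nat.card σ.ker = 2 ^ f * r :=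
    Nat.exists_eq_pow_mul_and_not_dvd hn 2 (by norm_num)
  have hr : r = 1 := by
    by_contra hr1
    obtain ⟨p, hp, hpr⟩ := Nat.exists_prime_and_dvd hr1
    exact hodd p hp (fun e => hr2 (e ▸ hpr)) (hfr ▸ hpr.mul_left _)
  rw [hr, mul_one] at hfr
  have hle : σ.ker ≤ zpowers z₀ := fun x hx => hz x hx f (by
    have h := pow_card_eq_one' (x := (⟨x, hx⟩ : σ.ker))
    rw [hfr] at h
    exact congrArg Subtype.val h)
  exact (card_dvd_of_le hle).trans (by rw [Nat.card_zpowers]; exact orderOf_dvd_iff_pow_eq_one.2 hz₀)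

end CfsgLib.SchurPerm
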