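import Cfsg.Agent.Lib.SchurPerm.Coded

/-!
Certificates for the multiplier of the Higman-Sims group as permutations of 100 points.
-/

set_option autoImplicit false
set_option maxRecDepth 100000

namespace CfsgLib.SchurPerm.HSData

open CfsgLib.SchurTail CfsgLib.SchurPerm

/-- The letters of the Sylow 2-subgroup. -/
def letters : List ℕ := [2223475073441116632976248665548529201385691353713789163435611736020573398360088145694915652223170245042448433592079281997234983599838113750554982712736456165403675630856303195590353083384980783870134351282011897670158298799264633261822066975, 2223992153437814574425627710877804508480614388363801465360653582211503245847475281955886906419954031854764383745786800322495497771066763200574352773609689638745660378795695053924495743997915771231711206138285037137444707078088374147342286110, 2118888713606491833608616857636919598318075322821130989892103427382703851157703207858876964900934560670133569725412902324629182186624587863842233002560938053629771609069073980542334028714850420626759227299565366670578174061200842027927420220,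 2578881113571120579535410262481320712485585225072673800032680278258779418066942439043279549435079673759325577029504693883538658814242468786474840645132807076539832616247205834257164821162191583813482114984860384046402485059192556948061044550, 2345876920999280100179250519813514177176532204548152041982282135996048403495683013484222849304177902145064722580956599829980198420177538443796237141326518816976063783294669166611834529051739107403451566602909300145818202231500976533746761795, 788161853456009441468464857995608929197694024723905973642126963506328404724817093681249538258354925355829324285171063984778568897073892755831939281452038529237547623585682064149944838681245801511346327203357172409062003410986638794894803285, 1824710105899500960939497700045501418413116821330480473972600887946165832112903858650749258700177770511448468958459941616673733814730461861989276377511309150798334128566818325739734233965173506120285536890593691364380636636337178303902597475,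 964283877579871444942428077656854117189980864995926140873731315358594168104070566853516326967488598886787827375314634978557993693426525173398808798818055064620320544848146952094666412068867971698097977881246760530061541579035087955559186710, 551895327753123316053158891433273549987096341056131127743279955098825729745216168669336130338848629240628057002163912189002530178799207916601544951521457414875513646783176162307865711581783894988426910115037603750911063403523702054124665670]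

/-- The conjugating elements. -/
def conjugators : List ℕ := [1284664672074697186009886653780185827567358019735896025010495384172100735800181992248382526020222740501148705297649566393400170084334954087942903315671175795812427241191202325752807919729513072161257875200779871188898883010753425095523174450, 2476116687314160904608699229838115986592375311882145592887838311114728832294974942996592916172758439484098262399549760885737377387941717520995655948107068766226861949678946590605621213906444617989818712077362808887704009231556637793470328585, 547218082962026399441959413077896660372804004577308116054847632539634537909429016982094562817209037635603578197945437193940271703469338116596589904494814545208426918128990586914144059390755833367327756293941616909291770078690860929460090375, 2588655898217456421506382797617678146181063594911923611668324015983673785535682120617797844935443643114178375607310353078057948576216403803733307430344148501309324754795717906285944385397670620634128980021439880916350952407940453165308400685,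 2093747096062717275840008184060223457645974371623162105243359164906533219670725912162837036019399449299418019608193547730486302611868422338526018951819731102754972759853073668477763686114036380568405616593678800332317802737172745484869446685, 2006455506000264785543471036009949011413046045346204427322005778699964778067772484737943054402254380195947000214610304998333929016557219766184065255970361882603109162616397616727763972678401571521133134272430392618290888707033881219149291535, 658104386774724150094206496152417403825957284470789482486162919450148854595075672497521062310881711841117372108683354658644502546484274269249696121907558953805173791202372139260405787035130251974670808596122025157514469563326042852926626325, 2345966330504481905350769011327601158774330808979012643660343960107523347422498289217857115663251501946847870380418135767991206734996790841611355324988038122756241042394885441741793714197876474855020092539206432995498291294465834524073222985,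 1539420394942346681591605227759660146465730019683541389540683278389418028220033453891955218417540414912535135251412937453153770047347559423213977943849912603592274490941193711838442988249951770277251588371953734766962958765631433649344880450, 2586819737829497071508837326399169021470004416822719032396073829049787515303899808295852964122376552255806830000807467776222374160049023313300287118429338976165745163301950340240917913868333746664617810369507719117598108785611413381751378520, 2584960091167019614179031421774879575003893626006082637899019372626833888000031081166851744617622937379737043908379270332263625080113828086527474188997038029462733323697915660720921480121274267920855602946877453433769894199120219163252297010, 2583466881289684997236620785987323973768985153263996410855397291971700452437869459151744943078631398542427962520339354039674434424946010325116343316114080970156653151952433200430065572471447233754615955354865283761407727250059407145626254170]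

/-- The certificate. -/
def tail : TailData where
  n := 9
  derived := [3, 4, 5, 6, 7, 8]
  defs := [(3, 0, 1), (4, 0, 2), (5, 1, 2), (6, 1, 4), (7, 0, 5), (8, 0, 4)]
  rules := [(0, 0, []), (1, 1, []), (2, 2, []), (3, 3, []), (4, 4, [8]), (5, 5, []), (6, 6, [8]), (7, 7, []), (8, 8, []), (1, 0, [0, 1, 3]), (2, 0, [0, 2, 4, 8]), (2, 1, [1, 2, 5]), (3, 0, [0, 3]), (3, 1, [1, 3]), (3, 2, [2, 3, 6, 8]), (4, 0, [0, 4, 8]), (4, 1, [1, 4, 6, 8]), (4, 2, [2, 4, 8]), (4, 3, [3, 4, 7]), (5, 0, [0, 5, 7]), (5, 1, [1, 5]), (5, 2, [2, 5]), (5, 3, [3, 5, 8]), (5, 4, [4, 5, 8]), (6, 0, [0, 6, 7, 8]), (6, 1, [1, 6, 8]), (6, 2, [2, 6, 8]), (6, 3, [3, 6, 8]), (6, 4, [4, 6, 8]), (6, 5, [5, 6]), (7, 0, [0, 7]), (7, 1, [1, 7, 8]), (7, 2, [2, 7, 8]), (7, 3, [3, 7]), (7, 4, [4, 7]), (7, 5, [5, 7]), (7, 6, [6, 7]), (8, 0, [0, 8]), (8, 1, [1, 8]), (8, 2, [2, 8]), (8, 3, [3, 8]), (8, 4, [4, 8]), (8, 5, [5, 8]), (8, 6, [6,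 8]), (8, 7, [7, 8])]
  conjs := [(0, [2, 6, 8], [2, 6, 8]), (0, [4, 5, 6, 7], [4, 5, 6, 7]), (1, [0, 3, 4, 6], [0, 3, 4, 6, 7, 8]), (1, [3, 5, 8], [3, 5, 7, 8]), (1, [0, 3, 4, 6, 7], [0, 4, 7, 8]), (1, [1, 5, 6, 8], [1, 5, 8]), (1, [3], [1, 3, 5, 7]), (2, [0, 1, 6], [0, 3, 6, 8]), (2, [1, 5, 6, 7, 8], [1, 5, 6, 7]), (2, [0, 1, 3, 5, 8], [0, 3, 5, 8]), (2, [1, 3, 6, 7, 8], [3, 6, 7]), (3, [2, 5, 6], [2, 5, 6]), (3, [2, 4, 8], [2, 4, 8]), (4, [3, 8], [3, 8]), (4, [0, 5, 6, 8], [0, 3, 5, 6]), (4, [0, 3, 5, 6, 7], [0, 3, 5, 6, 7]), (4, [7, 8], [0, 3, 5, 6, 8]), (5, [5, 7, 8], [1, 3, 6, 7, 8]), (5, [1, 3, 5, 6], [1, 3, 5, 6]), (6, [1, 3, 5, 7, 8], [1, 3, 5, 7, 8]), (6, [1, 5, 7, 8], [0, 1, 6]), (6, [0, 1, 3, 6, 7, 8], [1, 5, 7]), (7, [0, 1, 3, 6, 7, 8], [0, 6, 7]), (7, [5, 8], [1, 5, 6]), (7, [0, 3, 5], [0, 1, 5, 6, 8]), (7, [0, 3, 6, 8], [0, 1, 3, 7]), (8, [5, 7, 8], [1, 3, 6, 7, 8]), (8, [1, 3, 6, 7, 8],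 [5, 7, 8]), (9, [4, 5, 7, 8], [4, 5, 7, 8]), (9, [0, 3, 5, 6, 8], [0, 3, 5, 6, 8]), (10, [5, 7], [1, 3, 6, 7, 8]), (10, [1, 3, 5, 6, 8], [1, 3, 5, 6, 8]), (11, [1, 2, 5], [1, 2, 3, 4, 6, 7, 8]), (11, [4, 7], [0, 3, 5, 8]), (11, [1, 2, 3, 4, 5, 7], [1, 2, 3, 4, 7, 8]), (11, [0, 3, 5, 6, 7, 8], [3, 7])]
  srcs := [.word [[1, 0], [0]] [[1], [0, 0]], .word [[1, 1], [0]] [[1], [1, 0]], .word [[2, 0], [0]] [[2], [0, 0]], .word [[2, 1], [0]] [[2], [1, 0]], .word [[2, 1], [1]] [[2], [1, 1]], .word [[2, 2], [0]] [[2], [2, 0]], .word [[2, 2], [1]] [[2], [2, 1]], .word [[3, 2], [0]] [[3], [2, 0]], .word [[3, 2], [1]] [[3], [2, 1]], .word [[3, 2], [2]] [[3], [2, 2]], .word [[3, 3], [2]] [[3], [3, 2]], .word [[4, 0], [0]] [[4], [0, 0]], .word [[4, 1], [0]] [[4], [1, 0]], .word [[4, 1], [1]] [[4], [1, 1]], .word [[4, 2], [0]] [[4], [2, 0]], .word [[4, 2], [1]] [[4], [2, 1]], .word [[4, 2], [2]] [[4], [2, 2]], .word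 [[4, 3], [0]] [[4], [3, 0]], .word [[4, 3], [1]] [[4], [3, 1]], .word [[4, 3], [2]] [[4], [3, 2]], .word [[4, 3], [3]] [[4], [3, 3]], .word [[4, 4], [1]] [[4], [4, 1]], .word [[4, 4], [3]] [[4], [4, 3]], .word [[5, 1], [0]] [[5], [1, 0]], .word [[5, 2], [0]] [[5], [2, 0]], .word [[5, 3], [0]] [[5], [3, 0]], .word [[5, 3], [1]] [[5], [3, 1]], .word [[5, 3], [2]] [[5], [3, 2]], .word [[5, 3], [3]] [[5], [3, 3]], .word [[5, 4], [0]] [[5], [4, 0]], .word [[5, 4], [1]] [[5], [4, 1]], .word [[5, 4], [2]] [[5], [4, 2]], .word [[5, 4], [3]] [[5], [4, 3]], .word [[5, 4], [4]] [[5], [4, 4]], .word [[5, 5], [0]] [[5], [5, 0]], .word [[6, 1], [0]] [[6], [1, 0]], .word [[0, 1]] [[3, 1, 0]], .word [[0, 2]] [[4, 2, 0]], .word [[1, 2]] [[5, 2, 1]], .word [[1, 4]] [[6, 4, 1]], .word [[0, 5]] [[7, 5, 0]], .word [[0, 4]] [[8, 4, 0]], .conj 1 [4, 2] [2, 4], .conj 1 [3, 2, 6] [2, 6, 3], .conj 11 [34, 32] [32, 34]]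
  k := 6
  targets := [(3, 0, [(0, 1), (1, 2), (2, -2022), (3, 60), (5, -2022), (7, 375), (8, 144), (9, -276), (10, -246), (11, 1011), (12, -372), (13, -144), (14, 2016), (15, -276), (16, -1011), (17, 3), (18, 540), (19, 144), (20, 12), (21, -174), (22, 357), (23, 522), (24, 144), (25, -522), (26, 1233), (27, 885), (28, 219), (29, -504), (30, -1077), (31, 120), (32, 90), (33, 240), (34, 30), (35, 18), (36, -2), (42, 3)]), (4, 0, [(2, -1), (16, -1), (26, 1), (27, 1), (30, -1), (37, -2), (41, 1)]), (5, 0, [(0, 3), (1, 3), (2, 858), (3, -24), (4, 1), (5, 858), (6, 2), (7, -150), (8, -54), (9, 111), (10, 99), (11, -429), (12, 153), (13, 54), (14, -858), (15, 111), (16, 429), (17, 6), (18, -225), (19, -57), (20, -9), (21, 66), (22, -147), (23, -219), (24, -57), (25, 228), (26, -519), (27, -375), (28, -96), (29, 204), (30, 462), (31, -54), (32, -39), (33, -96), (34, -12), (35, -6), (38, -2), (42, 3), (43,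 -3)]), (6, 1, []), (7, 0, [(0, -2), (1, -2), (2, 148), (3, -6), (5, 148), (7, -28), (8, -5), (9, 15), (10, 11), (11, -74), (12, 26), (13, 7), (14, -151), (15, 15), (16, 75), (17, -4), (18, -37), (19, -11), (20, -4), (21, 9), (22, -29), (23, -43), (24, -13), (25, 31), (26, -83), (27, -63), (28, -21), (29, 44), (30, 81), (31, -15), (32, -8), (33, -16), (34, -2), (35, 4), (40, -2), (42, -2), (44, 2)]), (8, 0, [(2, -2), (5, -2), (16, -1), (26, -1), (27, -1), (30, 1), (41, -2)]), (9, 0, [(1, -1), (2, 674), (3, -20), (5, 674), (7, -125), (8, -48), (9, 92), (10, 82), (11, -337), (12, 124), (13, 48), (14, -672), (15, 92), (16, 337), (17, -1), (18, -180), (19, -48), (20, -4), (21, 58), (22, -119), (23, -174), (24, -48), (25, 174), (26, -411), (27, -295), (28, -73), (29, 168), (30, 359), (31, -40), (32, -30), (33, -80), (34, -10), (35, -6), (36, 1), (42, -1)]), (10, 0, [(2, 2), (5, 1), (16, 1), (37, 1), (41,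 1)]), (11, 0, [(0, -1), (1, -1), (2, -286), (3, 8), (5, -286), (6, -1), (7, 50), (8, 18), (9, -37), (10, -33), (11, 143), (12, -51), (13, -18), (14, 286), (15, -37), (16, -143), (17, -2), (18, 75), (19, 19), (20, 3), (21, -22), (22, 49), (23, 73), (24, 19), (25, -76), (26, 173), (27, 125), (28, 32), (29, -68), (30, -154), (31, 18), (32, 13), (33, 32), (34, 4), (35, 2), (38, 1), (42, -1), (43, 1)]), (12, 0, [(2, 674), (3, -20), (5, 674), (7, -125), (8, -48), (9, 92), (10, 82), (11, -337), (12, 124), (13, 48), (14, -672), (15, 92), (16, 337), (17, -1), (18, -180), (19, -48), (20, -4), (21, 58), (22, -119), (23, -174), (24, -48), (25, 174), (26, -411), (27, -295), (28, -73), (29, 168), (30, 359), (31, -40), (32, -30), (33, -80), (34, -10), (35, -6), (42, -1)]), (13, 0, [(0, -1), (1, -1), (2, 674), (3, -20), (5, 674), (7, -125), (8, -48), (9, 92), (10, 82), (11, -337), (12, 124), (13, 48), (14, -672), (15,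 92), (16, 337), (17, -1), (18, -180), (19, -48), (20, -4), (21, 58), (22, -119), (23, -174), (24, -48), (25, 174), (26, -411), (27, -295), (28, -73), (29, 168), (30, 359), (31, -40), (32, -30), (33, -80), (34, -10), (35, -6), (42, -1)]), (14, 0, [(0, 1), (1, 1), (2, -1411), (3, 42), (5, -1411), (7, 259), (8, 97), (9, -195), (10, -174), (11, 706), (12, -258), (13, -97), (14, 1404), (15, -195), (16, -706), (17, 1), (18, 376), (19, 99), (20, 9), (21, -118), (22, 247), (23, 362), (24, 100), (25, -366), (26, 873), (27, 619), (28, 153), (29, -348), (30, -760), (31, 80), (32, 62), (33, 168), (34, 21), (35, 15), (39, 1), (41, 1), (42, 1), (44, -1)]), (15, 0, [(2, 2), (5, 2), (14, -1), (16, 1), (41, 1)]), (16, 1, [(0, 4), (1, 4), (2, -4698), (3, 140), (5, -4698), (7, 862), (8, 320), (9, -650), (10, -578), (11, 2349), (12, -858), (13, -321), (14, 4671), (15, -650), (16, -2351), (17, 4), (18, 1250), (19, 330),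 (20, 30), (21, -391), (22, 822), (23, 1204), (24, 334), (25, -1216), (26, 2909), (27, 2058), (28, 510), (29, -1160), (30, -2532), (31, 266), (32, 206), (33, 560), (34, 70), (35, 50), (39, 3), (42, 4), (44, -4)]), (17, 0, [(2, 1), (5, 1), (16, 1), (41, 1)]), (18, 1, [(0, 3), (1, 3), (2, -2417), (3, 73), (5, -2417), (7, 444), (8, 163), (9, -333), (10, -295), (11, 1208), (12, -441), (13, -164), (14, 2403), (15, -333), (16, -1210), (17, 4), (18, 642), (19, 170), (20, 17), (21, -200), (22, 424), (23, 621), (24, 173), (25, -622), (26, 1495), (27, 1057), (28, 264), (29, -600), (30, -1303), (31, 139), (32, 107), (33, 288), (34, 36), (35, 24), (39, 2), (40, 1), (41, -1), (42, 3), (44, -3)]), (19, 0, [(0, 2), (1, 2), (2, -78), (3, 4), (5, -78), (7, 15), (9, -6), (10, -3), (11, 39), (12, -13), (13, -2), (14, 80), (15, -6), (16, -40), (17, 3), (18, 18), (19, 6), (20, 3), (21, -3), (22, 16), (23, 24), (24, 8), (25,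 -13), (26, 42), (27, 32), (28, 13), (29, -26), (30, -44), (31, 10), (32, 4), (33, 8), (34, 1), (35, -4), (40, 1), (42, 2), (44, -2)]), (20, 0, [(0, -1), (1, -1), (2, -286), (3, 8), (5, -286), (7, 50), (8, 18), (9, -37), (10, -33), (11, 143), (12, -51), (13, -18), (14, 286), (15, -37), (16, -143), (17, -2), (18, 75), (19, 19), (20, 3), (21, -22), (22, 49), (23, 73), (24, 19), (25, -76), (26, 173), (27, 125), (28, 32), (29, -68), (30, -154), (31, 18), (32, 13), (33, 32), (34, 4), (35, 2), (42, -1), (43, 1)]), (21, 0, [(0, -1), (1, -1), (2, -286), (3, 8), (4, -1), (5, -286), (6, -1), (7, 50), (8, 18), (9, -37), (10, -33), (11, 143), (12, -51), (13, -18), (14, 286), (15, -37), (16, -143), (17, -2), (18, 75), (19, 19), (20, 3), (21, -22), (22, 49), (23, 73), (24, 19), (25, -76), (26, 173), (27, 125), (28, 32), (29, -68), (30, -154), (31, 18), (32, 13), (33, 32), (34, 4), (35, 2), (42, -1), (43, 1)]), (22,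 1, [(0, 2), (1, 2), (2, -2350), (3, 70), (5, -2350), (7, 431), (8, 161), (9, -325), (10, -289), (11, 1175), (12, -429), (13, -161), (14, 2336), (15, -325), (16, -1176), (17, 2), (18, 625), (19, 165), (20, 15), (21, -196), (22, 411), (23, 602), (24, 167), (25, -608), (26, 1454), (27, 1029), (28, 255), (29, -580), (30, -1265), (31, 133), (32, 103), (33, 280), (34, 35), (35, 25), (39, 2), (42, 2), (44, -2)]), (23, 1, [(0, 2), (1, 2), (2, -1934), (3, 58), (5, -1934), (7, 355), (8, 132), (9, -269), (10, -239), (11, 967), (12, -353), (13, -132), (14, 1921), (15, -269), (16, -968), (17, 2), (18, 514), (19, 136), (20, 12), (21, -161), (22, 338), (23, 494), (24, 138), (25, -500), (26, 1203), (27, 847), (28, 209), (29, -478), (30, -1044), (31, 108), (32, 85), (33, 232), (34, 29), (35, 22), (39, 2), (42, 2), (44, -2)]), (24, 0, [(0, 1), (1, 1), (2, -81), (3, 3), (5, -81), (7, 16), (8, 3), (9, -6), (10, -4), (11,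 41), (12, -14), (13, -4), (14, 85), (15, -6), (16, -41), (17, 2), (18, 20), (19, 7), (20, 3), (21, -5), (22, 17), (23, 25), (24, 8), (25, -16), (26, 39), (27, 35), (28, 12), (29, -26), (30, -42), (31, 10), (32, 4), (33, 8), (34, 1), (35, -4), (40, 1), (41, 1), (42, 1), (44, -1)]), (25, 1, [(0, 2), (1, 2), (2, -2408), (3, 72), (5, -2408), (7, 442), (8, 166), (9, -335), (10, -298), (11, 1204), (12, -440), (13, -165), (14, 2393), (15, -335), (16, -1205), (17, 2), (18, 641), (19, 169), (20, 15), (21, -201), (22, 421), (23, 616), (24, 171), (25, -624), (26, 1494), (27, 1055), (28, 260), (29, -594), (30, -1298), (31, 135), (32, 106), (33, 288), (34, 36), (35, 27), (39, 2), (42, 2), (44, -2)]), (26, 1, [(0, 2), (1, 2), (2, -2070), (3, 62), (5, -2070), (7, 380), (8, 141), (9, -287), (10, -255), (11, 1035), (12, -378), (13, -141), (14, 2057), (15, -288), (16, -1036), (17, 2), (18, 550), (19, 146), (20, 13),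 (21, -172), (22, 362), (23, 529), (24, 148), (25, -535), (26, 1286), (27, 906), (28, 224), (29, -512), (30, -1117), (31, 116), (32, 91), (33, 248), (34, 31), (35, 23), (39, 2), (42, 2), (44, -2)]), (27, 1, [(0, 2), (1, 2), (2, -1876), (3, 56), (5, -1876), (7, 344), (8, 128), (9, -260), (10, -231), (11, 938), (12, -342), (13, -128), (14, 1864), (15, -260), (16, -939), (17, 2), (18, 498), (19, 132), (20, 12), (21, -156), (22, 328), (23, 480), (24, 134), (25, -484), (26, 1163), (27, 821), (28, 203), (29, -464), (30, -1011), (31, 106), (32, 82), (33, 224), (34, 28), (35, 20), (39, 2), (42, 2), (44, -2)]), (28, 1, [(0, 2), (1, 2), (2, -2546), (3, 76), (5, -2546), (7, 467), (8, 175), (9, -353), (10, -314), (11, 1273), (12, -465), (13, -175), (14, 2530), (15, -353), (16, -1274), (17, 2), (18, 677), (19, 179), (20, 16), (21, -213), (22, 445), (23, 651), (24, 181), (25, -659), (26, 1578), (27, 1115), (28, 275),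 (29, -628), (30, -1371), (31, 143), (32, 112), (33, 304), (34, 38), (35, 28), (39, 2), (42, 2), (44, -2)]), (29, 0, [(2, 136), (3, -4), (5, 136), (7, -25), (8, -9), (9, 18), (10, 16), (11, -68), (12, 25), (13, 9), (14, -136), (15, 18), (16, 68), (18, -36), (19, -10), (20, -1), (21, 11), (22, -24), (23, -35), (24, -10), (25, 35), (26, -82), (27, -59), (28, -15), (29, 34), (30, 73), (31, -9), (32, -6), (33, -16), (34, -2), (35, -1)]), (30, 0, [(2, -130), (3, 4), (5, -130), (7, 24), (8, 9), (9, -19), (10, -17), (11, 65), (12, -24), (13, -9), (14, 129), (15, -19), (16, -65), (17, 1), (18, 35), (19, 9), (20, 1), (21, -11), (22, 23), (23, 33), (24, 9), (25, -34), (26, 83), (27, 57), (28, 14), (29, -32), (30, -71), (31, 7), (32, 6), (33, 16), (34, 2), (35, 2)]), (31, 1, [(0, 2), (1, 2), (2, -2348), (3, 70), (5, -2348), (7, 431), (8, 161), (9, -325), (10, -289), (11, 1174), (12, -429), (13, -161), (14, 2334),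 (15, -325), (16, -1175), (17, 2), (18, 625), (19, 165), (20, 15), (21, -196), (22, 411), (23, 601), (24, 167), (25, -607), (26, 1453), (27, 1028), (28, 254), (29, -580), (30, -1264), (31, 133), (32, 103), (33, 280), (34, 35), (35, 25), (39, 2), (42, 2), (44, -2)]), (32, 1, [(0, 2), (1, 2), (2, -2550), (3, 76), (5, -2550), (7, 468), (8, 175), (9, -354), (10, -315), (11, 1275), (12, -466), (13, -175), (14, 2534), (15, -354), (16, -1276), (17, 2), (18, 679), (19, 179), (20, 16), (21, -213), (22, 446), (23, 653), (24, 180), (25, -661), (26, 1580), (27, 1116), (28, 276), (29, -628), (30, -1373), (31, 144), (32, 112), (33, 304), (34, 38), (35, 28), (39, 2), (42, 2), (44, -2)]), (33, 0, [(2, -74), (3, 2), (5, -74), (7, 13), (8, 5), (9, -9), (10, -8), (11, 37), (12, -13), (13, -5), (14, 74), (15, -9), (16, -37), (18, 19), (19, 5), (20, 1), (21, -6), (22, 13), (23, 19), (24, 5), (25, -19), (26, 42), (27, 32),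 (28, 8), (29, -18), (30, -38), (31, 5), (32, 3), (33, 8), (34, 1)]), (34, 0, [(2, -276), (3, 8), (5, -276), (7, 50), (8, 19), (9, -37), (10, -33), (11, 138), (12, -50), (13, -19), (14, 275), (15, -37), (16, -138), (18, 73), (19, 19), (20, 2), (21, -23), (22, 48), (23, 71), (24, 19), (25, -71), (26, 166), (27, 120), (28, 30), (29, -68), (30, -146), (31, 17), (32, 12), (33, 32), (34, 4), (35, 2)]), (35, 0, [(2, 60), (3, -2), (5, 60), (7, -11), (8, -4), (9, 10), (10, 9), (11, -30), (12, 11), (13, 4), (14, -58), (15, 10), (16, 30), (18, -16), (19, -4), (21, 5), (22, -10), (23, -14), (24, -4), (25, 16), (26, -42), (27, -26), (28, -6), (29, 14), (30, 34), (31, -2), (32, -2), (33, -8), (34, -1), (35, -2)]), (36, 0, [(2, -342), (3, 10), (5, -342), (7, 63), (8, 24), (9, -46), (10, -41), (11, 171), (12, -63), (13, -24), (14, 341), (15, -46), (16, -171), (18, 91), (19, 24), (20, 2), (21, -29), (22, 60), (23, 88),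 (24, 24), (25, -89), (26, 207), (27, 150), (28, 37), (29, -84), (30, -182), (31, 20), (32, 15), (33, 40), (34, 5), (35, 3)]), (37, 0, [(2, -2), (5, -2), (11, 1), (14, 2), (16, -1), (26, 1), (27, 1), (30, -1)]), (38, 0, [(26, 1)]), (39, 0, [(26, 1), (27, 1), (30, -1)]), (40, 0, [(2, -58), (3, 2), (5, -58), (7, 11), (8, 4), (9, -10), (10, -9), (11, 29), (12, -11), (13, -4), (14, 57), (15, -10), (16, -29), (18, 16), (19, 4), (21, -5), (22, 10), (23, 14), (24, 4), (25, -16), (26, 42), (27, 26), (28, 6), (29, -14), (30, -34), (31, 2), (32, 3), (33, 8), (34, 1), (35, 2)]), (41, 0, [(2, 2), (5, 2), (11, -1), (14, -1), (16, 1)]), (42, 0, [(26, -1), (27, -1), (30, 1), (31, 1)]), (43, 0, [(2, 136), (3, -4), (5, 136), (7, -25), (8, -9), (9, 18), (10, 16), (11, -68), (12, 25), (13, 9), (14, -136), (15, 18), (16, 68), (18, -36), (19, -10), (20, -1), (21, 11), (22, -24), (23, -35), (24, -10), (25, 35), (26, -82),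 (27, -60), (28, -15), (29, 34), (30, 73), (31, -8), (32, -6), (33, -16), (34, -2), (35, -1)]), (44, 0, [(2, 72), (3, -2), (5, 72), (7, -13), (8, -5), (9, 9), (10, 8), (11, -36), (12, 13), (13, 5), (14, -72), (15, 9), (16, 36), (18, -19), (19, -5), (20, -1), (21, 6), (22, -13), (23, -19), (24, -5), (25, 18), (26, -41), (27, -31), (28, -8), (29, 18), (30, 37), (31, -5), (32, -3), (33, -8), (34, -1)])]
  four := [(0, -8), (1, -8), (2, 9520), (3, -284), (5, 9520), (7, -1746), (8, -652), (9, 1320), (10, 1174), (11, -4758), (12, 1738), (13, 652), (14, -9458), (15, 1320), (16, 4764), (17, -8), (18, -2532), (19, -668), (20, -60), (21, 794), (22, -1664), (23, -2436), (24, -676), (25, 2464), (26, -5898), (27, -4166), (28, -1030), (29, 2348), (30, 5126), (31, -536), (32, -418), (33, -1136), (34, -142), (35, -104), (39, -8), (41, 4), (42, -8), (44, 8)]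
  forms := [[0, 3, 5, 7, 8], [0, 1, 6, 7], [1, 5], [0, 5, 7], [3, 6], [6, 8], [1, 3, 5, 8], [0, 1, 3, 6, 7, 8], [2, 3, 4, 5, 6], [2, 4, 5, 6, 7], [1, 2, 4, 5, 6, 7], [0, 1, 2, 3, 6, 7, 8], [1, 2, 3, 4, 5, 6], [0, 2, 3, 7], [0, 2, 7], [0, 1, 2, 6, 7], [0, 1, 2, 4, 5, 6, 7], [0, 2, 4, 5, 6, 7], [0, 1, 2, 3, 4, 5, 6], [2, 3, 7], [0, 2, 3, 4, 5, 6], [1, 2, 3, 6, 7, 8], [1, 2, 6, 7], [2, 7], [2, 3, 4, 5], [1, 2, 3, 4, 5, 8], [1, 2, 4, 5, 7], [0, 1, 2], [2, 4, 5, 7, 8], [0, 2, 6, 8], [0, 2, 3, 6], [0, 1, 2, 3], [0, 1, 5, 7], [0, 1, 3, 5, 7, 8], [3, 5], [0, 6, 7], [5, 8], [1, 3, 6, 8], [1, 6], [0, 3, 6, 7, 8], [0, 1, 3, 4, 5], [1, 3, 4, 6, 8], [1, 4, 6, 7], [0, 1, 4, 5, 7, 8], [4, 5, 6, 7, 8], [0, 4, 7, 8], [0, 3, 4, 8], [3, 4, 5, 6, 8], [2, 4, 5, 6, 7, 8], [1, 2, 4, 5, 6, 7, 8], [0, 2, 7, 8], [0, 1, 2, 6, 7, 8], [1, 2, 3, 4, 5, 6, 8], [0, 2, 3, 7, 8], [0, 1, 2, 3, 6, 7], [2, 3, 4, 5, 6, 8], [0, 3, 4, 5, 6,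 8], [4, 7, 8], [0, 4, 5, 6, 7, 8], [1, 4, 5, 7, 8], [0, 1, 3, 4, 6, 8], [0, 1, 4, 6, 7], [1, 3, 4, 5], [3, 4, 8], [2, 4, 5, 6], [1, 2, 4, 5, 6, 8], [1, 2, 3, 4, 5, 6, 7, 8], [2, 3, 4, 5, 6, 7], [0, 1, 2, 3, 6], [0, 2], [0, 1, 2, 6, 8], [0, 2, 3], [2, 3, 5, 8], [0, 2, 3, 4, 6, 8], [0, 1, 2, 3, 4, 6, 8], [0, 1, 2, 4, 6, 7], [0, 2, 4, 6, 7], [2, 5], [1, 2, 3, 5, 6, 8], [1, 2, 5, 6, 8], [0, 1, 2, 3, 4, 5], [0, 2, 4, 5, 7], [0, 1, 2, 4, 5, 7, 8], [1, 2, 3, 8], [0, 2, 3, 4, 5, 8], [2, 3, 6, 8], [1, 2, 8], [2, 6], [1, 4, 5, 6, 7], [0, 4, 5, 8], [1, 3, 4, 5, 6], [0, 1, 3, 4, 7], [0, 1, 4], [4, 6, 7, 8], [3, 4, 6], [0, 3, 4, 5, 7], [3, 8], [0, 5, 6], [1, 3, 5, 6], [8], [0, 1, 8], [1, 5, 6], [0, 1, 3, 8], [0, 3, 5, 6], [6, 7, 8], [0, 5], [3, 6, 7], [1, 3, 5, 7], [0, 1, 3, 6], [0, 1, 6, 8], [0, 3, 5, 8], [1, 5, 7, 8], [1, 7, 8], [0, 1, 5, 6, 7], [0, 3, 7], [0, 1, 3, 5, 6, 7], [3, 5, 6, 7, 8], [0, 7], [1, 3, 7,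 8], [5, 6, 7, 8], [6, 7], [0, 3, 5], [0, 1, 3, 6, 8], [0, 1, 6], [1, 5, 7], [1, 3, 5, 7, 8], [0, 5, 8], [3, 6, 7, 8], [0, 2, 4, 7, 8], [2, 5, 6, 7, 8], [0, 2, 3, 4, 8], [0, 1, 2, 4, 7], [1, 2, 3, 5, 7], [1, 2, 5, 7, 8], [0, 1, 2, 3, 4], [2, 3, 5, 6, 7, 8], [2, 3, 8], [1, 2, 3, 6, 8], [0, 1, 2, 4, 5, 6], [0, 2, 3, 4, 5, 6, 7, 8], [0, 1, 2, 3, 4, 5, 6, 7], [0, 2, 4, 5, 6, 8], [1, 2, 6], [2, 8], [0, 6, 7, 8], [1, 3, 6], [1, 6, 8], [0, 1, 3, 5, 7], [0, 3, 6, 7], [5], [0, 1, 5, 7, 8], [3, 5, 8], [1, 6, 7], [0, 3, 6], [0, 6, 8], [0, 1, 5], [3, 5, 7, 8], [0, 1, 3, 5, 8], [5, 7], [1, 3, 6, 7, 8], [1, 3, 7], [0, 7, 8], [5, 6, 7], [3, 5, 6, 7], [1, 7], [0, 3, 7, 8], [0, 1, 5, 6, 7, 8], [0, 1, 3, 5, 6, 7, 8], [0, 1, 3, 4, 5, 7, 8], [1, 4, 6, 8], [4, 5, 6, 8], [0, 3, 4, 7, 8], [3, 4, 5, 6, 7, 8], [1, 3, 4, 6, 7], [0, 1, 4, 5], [0, 4, 8], [2, 3, 5, 6, 8], [0, 2, 4, 8], [0, 1, 2, 3, 4, 7, 8], [0, 2, 3, 4, 7, 8],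 [1, 2, 3, 5, 8], [0, 1, 2, 4, 8], [2, 5, 6, 8], [1, 2, 5], [4, 5, 7], [0, 1, 4, 5, 6], [1, 3, 4], [3, 4, 5, 8], [1, 4, 7], [0, 4, 6], [0, 3, 4, 6, 7, 8], [0, 1, 3, 4, 5, 6, 7], [7], [0, 1, 3, 7, 8], [1, 5, 6, 7], [0, 1, 7, 8], [1, 3, 5, 6, 7], [3, 7], [0, 5, 6, 7, 8], [0, 3, 5, 6, 7, 8], [0, 2, 3, 4, 6, 7], [2, 5, 7, 8], [0, 1, 2, 3, 4, 6, 7, 8], [1, 2, 5, 6, 7, 8], [0, 1, 2, 4, 6], [2, 3, 5, 7], [1, 2, 3, 5, 6, 7, 8], [0, 2, 4, 6, 8], [3, 7, 8], [0, 5, 6, 7], [0, 1, 7], [0, 3, 5, 6, 7], [1, 3, 5, 6, 7, 8], [7, 8], [0, 1, 3, 7], [1, 5, 6, 7, 8], [3, 4, 5, 6], [1, 4, 6, 7, 8], [0, 3, 4], [0, 1, 3, 4, 5, 8], [0, 4, 7], [1, 3, 4, 6], [4, 5, 6, 7], [0, 1, 4, 5, 7], [1, 3, 8], [0, 1, 3, 5, 6], [0, 1, 5, 6], [1, 8], [0, 8], [0, 3, 8], [5, 6], [3, 5, 6], [1, 2, 3, 4, 6, 8], [2, 4, 6, 7], [2, 3, 4, 6, 8], [0, 2, 5], [1, 2, 4, 6, 7], [0, 1, 2, 3, 5, 6, 8], [0, 2, 3, 5, 8], [0, 1, 2, 5, 6, 8], [0, 1, 2, 3, 4,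 6, 7], [1, 2, 5, 6, 7], [0, 2, 4, 6], [2, 3, 5, 7, 8], [0, 2, 3, 4, 6, 7, 8], [2, 5, 7], [0, 1, 2, 4, 6, 8], [1, 2, 3, 5, 6, 7], [1, 2, 4, 7], [2, 4, 7, 8], [2, 3, 4, 8], [0, 1, 2, 3, 5, 7], [0, 1, 2, 5, 7, 8], [0, 2, 5, 6, 7, 8], [0, 2, 3, 5, 6, 7, 8], [1, 2, 3, 4], [0, 2, 3, 6, 7], [2, 3, 4, 5, 7], [1, 2, 3, 4, 5, 7], [0, 1, 2, 3, 7, 8], [0, 1, 2, 7, 8], [0, 2, 6, 7, 8], [1, 2, 4, 5, 8], [2, 4, 5, 8], [0, 3, 4, 5, 6, 7, 8], [1, 4, 5], [3, 4, 7, 8], [0, 1, 4, 6, 8], [1, 3, 4, 5, 7, 8], [0, 4, 5, 6, 8], [4, 8], [0, 1, 3, 4, 6, 7], [0, 1, 2, 3, 4, 5, 7], [0, 2, 3, 4, 5, 7], [2, 6, 7, 8], [1, 2, 3, 7, 8], [1, 2, 7, 8], [2, 3, 6, 7], [0, 2, 4, 5, 8], [0, 1, 2, 4, 5, 8], [0, 1, 2, 5, 6, 7], [1, 2, 3, 4, 6, 7], [0, 2, 3, 5, 7, 8], [0, 2, 5, 7], [2, 4, 6], [0, 1, 2, 3, 5, 6, 7], [2, 3, 4, 6, 7, 8], [1, 2, 4, 6, 8], [3, 4, 6, 8], [4, 6, 7], [0, 3, 4, 5, 7, 8], [1, 4, 5, 6, 7, 8], [0, 1, 4, 8], [1, 3, 4, 5,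 6, 8], [0, 4, 5], [0, 1, 3, 4, 7, 8], [1, 2, 6, 7, 8], [0, 2, 4, 5, 6, 7, 8], [2, 7, 8], [0, 1, 2, 4, 5, 6, 7, 8], [0, 2, 3, 4, 5, 6, 8], [1, 2, 3, 6, 7], [2, 3, 7, 8], [0, 1, 2, 3, 4, 5, 6, 8], [1, 2, 4], [0, 1, 2, 3, 5], [0, 1, 2, 5, 8], [2, 4], [2, 3, 4, 7], [1, 2, 3, 4, 7], [0, 2, 3, 5, 6], [0, 2, 5, 6], [1, 6, 7, 8], [0, 1, 3, 5], [5, 7, 8], [1, 3, 6, 7], [0, 3, 6, 8], [3, 5, 7], [0, 6], [0, 1, 5, 8], [1, 2, 3], [0, 1, 2, 3, 4, 5, 8], [0, 2, 3, 4, 5], [0, 2, 4, 5, 7, 8], [2, 6, 8], [2, 3, 6], [0, 1, 2, 4, 5, 7], [1, 2], [2, 4, 8], [0, 2, 3, 5, 6, 8], [2, 3, 4, 7, 8], [0, 2, 5, 6, 8], [1, 2, 3, 4, 7, 8], [0, 1, 2, 5], [1, 2, 4, 8], [0, 1, 2, 3, 5, 8], [0, 3, 4, 5], [0, 4, 5, 7, 8], [1, 4, 5, 6, 8], [4, 6, 8], [3, 4, 6, 7], [1, 3, 4, 5, 6, 7, 8], [0, 1, 3, 4, 8], [0, 1, 4, 7, 8], [0, 1, 2, 4, 7, 8], [1, 2, 5, 7], [0, 1, 2, 3, 4, 8], [2, 3, 5, 6, 7], [2, 5, 6, 7], [0, 2, 4, 7], [1, 2, 3, 5, 7, 8],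 [0, 2, 3, 4], [0, 4, 5, 7], [3, 4, 6, 7, 8], [0, 1, 3, 4], [0, 1, 4, 7], [0, 3, 4, 5, 8], [1, 4, 5, 6], [4, 6], [1, 3, 4, 5, 6, 7], [0, 1, 6, 7, 8], [3, 6, 8], [6], [0, 5, 7, 8], [0, 3, 5, 7], [1, 3, 5], [0, 1, 3, 6, 7], [1, 5, 8], [0, 1, 3, 4, 5, 6, 7, 8], [0, 3, 4, 6, 7], [4, 5, 7, 8], [3, 4, 5], [0, 4, 6, 8], [1, 4, 7, 8], [0, 1, 4, 5, 6, 8], [1, 3, 4, 8], [1, 3, 4, 5, 8], [3, 4], [4, 7], [0, 1, 4, 6, 7, 8], [0, 1, 3, 4, 6], [0, 3, 4, 5, 6], [1, 4, 5, 7], [0, 4, 5, 6, 7], [0, 1, 4, 5, 6, 7], [1, 4], [1, 3, 4, 7], [0, 1, 3, 4, 5, 6], [4, 5, 8], [0, 3, 4, 6], [0, 4, 6, 7, 8], [3, 4, 5, 7], [1, 2, 4, 5, 7, 8], [1, 2, 3, 4, 5], [2, 4, 5, 7], [0, 2, 3, 6, 8], [2, 3, 4, 5, 8], [0, 1, 2, 3, 8], [0, 2, 6], [0, 1, 2, 8], [0, 1, 2, 3, 6, 8], [0, 2, 3, 8], [0, 2, 8], [1, 2, 4, 5, 6], [1, 2, 3, 4, 5, 6, 7], [0, 1, 2, 6], [2, 3, 4, 5, 6, 7, 8], [2, 4, 5, 6, 8], [0, 2, 5, 7, 8], [0, 1, 2, 3, 5, 6, 7, 8], [1, 2,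 4, 6], [1, 2, 3, 4, 6, 7, 8], [2, 3, 4, 6, 7], [0, 2, 3, 5, 7], [0, 1, 2, 5, 6, 7, 8], [2, 4, 6, 8], [0, 2, 3, 4, 5, 6, 7], [0, 1, 2, 4, 5, 6, 8], [0, 2, 4, 5, 6], [0, 1, 2, 3, 4, 5, 6, 7, 8], [2, 3], [1, 2, 6, 8], [1, 2, 3, 6], [2], [0, 1, 2, 4, 6, 7, 8], [0, 2, 3, 4, 6], [1, 2, 5, 6], [1, 2, 3, 5, 6], [0, 2, 4, 6, 7, 8], [2, 3, 5], [0, 1, 2, 3, 4, 6], [2, 5, 8], [1, 3], [0, 3], [0, 1, 5, 6, 8], [3, 5, 6, 8], [5, 6, 8], [0, 1, 3, 5, 6, 8], [0], [1], [1, 2, 3, 5], [0, 2, 4], [0, 1, 2, 3, 4, 7], [0, 1, 2, 4], [0, 2, 3, 4, 7], [2, 5, 6], [2, 3, 5, 6], [1, 2, 5, 8], [0, 1, 3, 4, 5, 6, 8], [0, 1, 4, 5, 6, 7, 8], [4, 5], [1, 3, 4, 7, 8], [0, 3, 4, 6, 8], [0, 4, 6, 7], [3, 4, 5, 7, 8], [1, 4, 8], [0, 3, 4, 5, 6, 7], [1, 3, 4, 5, 7], [0, 4, 5, 6], [4], [0, 1, 3, 4, 6, 7, 8], [1, 4, 5, 8], [3, 4, 7], [0, 1, 4, 6], [2, 3, 4, 6], [2, 4, 6, 7, 8], [1, 2, 4, 6, 7, 8], [0, 1, 2, 5, 6], [0, 1, 2, 3, 5, 6], [1, 2,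 3, 4, 6], [0, 2, 3, 5], [0, 2, 5, 8], [1, 2, 3, 4, 8], [1, 2, 4, 7, 8], [0, 2, 3, 5, 6, 7], [2, 4, 7], [0, 1, 2, 5, 7], [2, 3, 4], [0, 2, 5, 6, 7], [0, 1, 2, 3, 5, 7, 8], [2, 6, 7], [1, 2, 7], [0, 1, 2, 4, 5], [0, 2, 3, 4, 5, 7, 8], [0, 2, 4, 5], [1, 2, 3, 7], [0, 1, 2, 3, 4, 5, 7, 8], [2, 3, 6, 7, 8], [0, 1, 3, 4, 5, 7], [3, 4, 5, 6, 7], [0, 1, 4, 5, 8], [1, 3, 4, 6, 7, 8], [0, 4], [4, 5, 6], [1, 4, 6], [0, 3, 4, 7], [0, 1, 2, 7], [0, 2, 6, 7], [2, 4, 5], [2, 3, 4, 5, 7, 8], [1, 2, 4, 5], [0, 2, 3, 6, 7, 8], [1, 2, 3, 4, 5, 7, 8], [0, 1, 2, 3, 7], [3], [0, 1, 3], [0, 3, 5, 6, 8], [0, 5, 6, 8], [1, 5, 6, 8], [1, 3, 5, 6, 8], [0, 1], []]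
  dforms := [[3, 6], [6, 8], [3, 5], [5, 8], [4, 5, 6, 7, 8], [3, 4, 5, 6, 8], [4, 7, 8], [3, 4, 8], [4, 6, 7, 8], [3, 4, 6], [3, 8], [8], [6, 7, 8], [3, 6, 7], [3, 5, 6, 7, 8], [5, 6, 7, 8], [6, 7], [3, 6, 7, 8], [5], [3, 5, 8], [3, 5, 7, 8], [5, 7], [5, 6, 7], [3, 5, 6, 7], [4, 5, 6, 8], [3, 4, 5, 6, 7, 8], [4, 5, 7], [3, 4, 5, 8], [7], [3, 7], [3, 7, 8], [7, 8], [3, 4, 5, 6], [4, 5, 6, 7], [5, 6], [3, 5, 6], [3, 4, 7, 8], [4, 8], [3, 4, 6, 8], [4, 6, 7], [5, 7, 8], [3, 5, 7], [4, 6, 8], [3, 4, 6, 7], [3, 4, 6, 7, 8], [4, 6], [3, 6, 8], [6], [4, 5, 7, 8], [3, 4, 5], [3, 4], [4, 7], [4, 5, 8], [3, 4, 5, 7], [3, 5, 6, 8], [5, 6, 8], [4, 5], [3, 4, 5, 7, 8], [4], [3, 4, 7], [3, 4, 5, 6, 7], [4, 5, 6], [3], []]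

/-- Twice the distinguished tail. -/
def two : List (ℕ × ℤ) := [(0, -4), (1, -4), (2, 4760), (3, -142), (5, 4760), (7, -873), (8, -326), (9, 660), (10, 587), (11, -2379), (12, 869), (13, 326), (14, -4729), (15, 660), (16, 2382), (17, -4), (18, -1266), (19, -334), (20, -30), (21, 397), (22, -832), (23, -1218), (24, -338), (25, 1232), (26, -2949), (27, -2083), (28, -515), (29, 1174), (30, 2563), (31, -268), (32, -209), (33, -568), (34, -71), (35, -52), (39, -4), (41, 2), (42, -4), (44, 4)]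

/-- The first generator for the prime 3. -/
def a3 : ℕ := 965775044848997575033509524607339767971064118191516175945653529966216855229388486400350368585923801586493367945703848160354492370148211978192567552800693894142925406124296690328291036862400945678709014541773800136062398865928718388041749315

/-- The second generator for the prime 3. -/
def b3 : ℕ := 496742215891325278634028665023519364670825003254311992648144268132790899663471502235104840964494943242743049850995555457088347884344904727211769783819508533735513096555489834308170908654038706463277742313992344390192338593462129006980308525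

/-- The normalising element for the prime 3. -/
def h3 : ℕ := 579161937902449918969823448168074453291538726084730835635233068369109599875297872127878546252656376526372831790675105035973020541400317182435877466786368256984166519195745586754539386529654561343953236127618852773773867958602795925140220160

/-- The certificate for the prime 3. -/
def odd3 : Abel := ⟨a3, b3, h3, [[a3, a3, b3], [b3], [a3, a3, b3, b3], [a3], [b3, b3], [a3, a3], [a3, b3], [a3, b3, b3], []]⟩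

/-- The first generator for the prime 5. -/
def a5 : ℕ := 2348110149504013785578157481506720383260385136016896510386399502223665212983596632494794059930435473517741905339081413453250751408226292229862344697926319394387951322256189083235434995488439305700545452642685010792605821704899636572639941695

/-- The second generator for the prime 5. -/
def b5 : ℕ := 2065152660899292070252586563884000772598467945648078297844564534674343854214005647970283346630771143114407487196727142789252566049560094150643632602346777837786551089264271880617183782007135358606101802469051799663983884472724603533066178140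

/-- The normalising element for the prime 5. -/
def h5 : ℕ := 2348110187061637890773393978019403305535813877233145893076513638702747182989417099434508042780690983714905532830373908041198458662567267472322619601646290249586442471507504644585963328791991497059030074472066759611293821066102323134536821285

/-- The certificate for the prime 5. -/
def odd5 : Extra := ⟨a5, b5, h5, 0, 0, [[a5, a5, a5, a5, b5, b5, a5, b5, a5, a5, a5, a5, b5, b5, b5, b5, a5, b5, a5, a5, a5, a5, b5, b5, b5, b5], [a5, b5, b5, b5, b5], [b5, b5, b5, a5, b5, a5, a5, a5, a5, b5, b5, b5, b5, a5, b5, a5, a5, a5, a5, b5, b5, b5, b5, a5, b5, a5, a5, a5, a5, b5, b5, b5, b5, a5, b5, a5, a5, a5, a5, b5, b5, b5, b5], [a5, a5], [a5, a5, a5, b5, a5, b5, a5, a5, a5, a5, b5, b5, b5, b5, a5, b5, a5, a5, a5, a5, b5, b5, b5, b5, a5, b5, a5, a5, a5, a5, b5, b5, b5, b5, a5, b5, a5, a5, a5, a5, b5, b5, b5, b5], [a5, b5, b5, b5, a5, b5, a5, a5, a5,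 a5, b5, b5, b5, b5], [a5, a5, b5, b5, b5, b5, a5, b5, a5, a5, a5, a5, b5, b5, b5, b5, a5, b5, a5, a5, a5, a5, b5, b5, b5, b5], [a5, a5, a5, a5, b5, a5, b5, a5, a5, a5, a5, b5, b5, b5, b5], [a5, a5, a5, a5, b5, a5, a5, a5, a5, b5, b5, b5, b5, a5, b5, a5, a5, a5, a5, b5, b5, b5, b5], [b5, b5, a5, b5, a5, a5, a5, a5, b5, b5, b5, b5, a5, b5, a5, a5, a5, a5, b5, b5, b5, b5, a5, b5, a5, a5, a5, a5, b5, b5, b5, b5, a5, b5, a5, a5, a5, a5, b5, b5, b5, b5], [a5, a5, a5, b5, b5, b5, a5, b5, a5, a5, a5, a5, b5, b5, b5, b5], [a5, a5, b5, b5, a5, b5, a5, a5, a5, a5, b5, b5, b5, b5, a5, b5, a5, a5, a5, a5, b5, b5, b5, b5, a5, b5, a5, a5, a5, a5, b5, b5, b5, b5, a5, b5, a5, a5, a5, a5, b5, b5, b5, b5], [a5, b5, a5, b5, a5, a5, a5, a5, b5, b5, b5, b5], [a5, b5, a5, a5, a5, a5, b5, b5, b5, b5, a5, b5, a5, a5, a5, a5, b5, b5, b5, b5], [a5, a5, a5, a5, b5, b5, b5, b5, a5, b5, a5, a5, a5, a5, b5, b5, b5, b5, a5, b5, a5,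 a5, a5, a5, b5, b5, b5, b5], [a5, a5, a5, a5, b5, a5, b5, a5, a5, a5, a5, b5, b5, b5, b5, a5, b5, a5, a5, a5, a5, b5, b5, b5, b5], [b5, b5], [a5, b5, b5, b5, a5, b5, a5, a5, a5, a5, b5, b5, b5, b5, a5, b5, a5, a5, a5, a5, b5, b5, b5, b5], [a5, a5, a5, a5, b5, a5, a5, a5, a5, b5, b5, b5, b5, a5, b5, a5, a5, a5, a5, b5, b5, b5, b5, a5, b5, a5, a5, a5, a5, b5, b5, b5, b5], [a5, a5, b5, b5, b5, b5, a5, b5, a5, a5, a5, a5, b5, b5, b5, b5, a5, b5, a5, a5, a5, a5, b5, b5, b5, b5, a5, b5, a5, a5, a5, a5, b5, b5, b5, b5], [a5, b5, b5, b5, b5, a5, b5, a5, a5, a5, a5, b5, b5, b5, b5, a5, b5, a5, a5, a5, a5, b5, b5, b5, b5, a5, b5, a5, a5, a5, a5, b5, b5, b5, b5], [b5, b5, b5, a5, b5, a5, a5, a5, a5, b5, b5, b5, b5, a5, b5, a5, a5, a5, a5, b5, b5, b5, b5], [a5, a5, a5, b5, a5, b5, a5, a5, a5, a5, b5, b5, b5, b5, a5, b5, a5, a5, a5, a5, b5, b5, b5, b5], [a5, a5, a5, a5, b5, b5], [a5, a5, a5, b5, a5, a5, a5, a5,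 b5, b5, b5, b5, a5, b5, a5, a5, a5, a5, b5, b5, b5, b5, a5, b5, a5, a5, a5, a5, b5, b5, b5, b5], [a5, a5, a5, b5, b5, b5], [a5, a5, a5, a5, b5, b5, b5, b5, a5, b5, a5, a5, a5, a5, b5, b5, b5, b5], [a5, b5, a5, a5, a5, a5, b5, b5, b5, b5], [a5, b5], [a5, a5, b5, b5, a5, b5, a5, a5, a5, a5, b5, b5, b5, b5, a5, b5, a5, a5, a5, a5, b5, b5, b5, b5, a5, b5, a5, a5, a5, a5, b5, b5, b5, b5], [a5, a5, a5, b5, b5, a5, b5, a5, a5, a5, a5, b5, b5, b5, b5, a5, b5, a5, a5, a5, a5, b5, b5, b5, b5, a5, b5, a5, a5, a5, a5, b5, b5, b5, b5], [a5, a5, b5, a5, a5, a5, a5, b5, b5, b5, b5], [b5, b5, b5, b5, a5, b5, a5, a5, a5, a5, b5, b5, b5, b5], [a5, a5, b5], [a5, a5, a5, a5, b5, b5, b5], [b5, b5, a5, b5, a5, a5, a5, a5, b5, b5, b5, b5, a5, b5, a5, a5, a5, a5, b5, b5, b5, b5, a5, b5, a5, a5, a5, a5, b5, b5, b5, b5], [a5, a5, a5, a5, b5], [a5, a5, a5, a5, b5, a5, a5, a5, a5, b5, b5, b5, b5], [a5, b5, b5, b5], [a5, a5, b5,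 b5, b5, b5, a5, b5, a5, a5, a5, a5, b5, b5, b5, b5], [a5, a5, a5, a5], [a5, b5, b5, a5, b5, a5, a5, a5, a5, b5, b5, b5, b5, a5, b5, a5, a5, a5, a5, b5, b5, b5, b5], [a5, a5, b5, b5, b5, a5, b5, a5, a5, a5, a5, b5, b5, b5, b5, a5, b5, a5, a5, a5, a5, b5, b5, b5, b5, a5, b5, a5, a5, a5, a5, b5, b5, b5, b5, a5, b5, a5, a5, a5, a5, b5, b5, b5, b5], [b5, a5, b5, a5, a5, a5, a5, b5, b5, b5, b5, a5, b5, a5, a5, a5, a5, b5, b5, b5, b5, a5, b5, a5, a5, a5, a5, b5, b5, b5, b5, a5, b5, a5, a5, a5, a5, b5, b5, b5, b5], [a5, a5, a5, b5, b5, b5, b5], [a5, a5, a5, b5, a5, b5, a5, a5, a5, a5, b5, b5, b5, b5], [a5, a5, a5, a5, b5, b5, a5, b5, a5, a5, a5, a5, b5, b5, b5, b5, a5, b5, a5, a5, a5, a5, b5, b5, b5, b5, a5, b5, a5, a5, a5, a5, b5, b5, b5, b5, a5, b5, a5, a5, a5, a5, b5, b5, b5, b5], [a5, a5, a5, b5, a5, a5, a5, a5, b5, b5, b5, b5, a5, b5, a5, a5, a5, a5, b5, b5, b5, b5], [a5, b5, b5, b5, b5, a5, b5, a5, a5,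 a5, a5, b5, b5, b5, b5, a5, b5, a5, a5, a5, a5, b5, b5, b5, b5], [b5, b5, b5, a5, b5, a5, a5, a5, a5, b5, b5, b5, b5], [a5, a5, a5, b5, b5, b5, b5, a5, b5, a5, a5, a5, a5, b5, b5, b5, b5, a5, b5, a5, a5, a5, a5, b5, b5, b5, b5], [b5, a5, b5, a5, a5, a5, a5, b5, b5, b5, b5], [a5, b5, b5, a5, b5, a5, a5, a5, a5, b5, b5, b5, b5, a5, b5, a5, a5, a5, a5, b5, b5, b5, b5, a5, b5, a5, a5, a5, a5, b5, b5, b5, b5, a5, b5, a5, a5, a5, a5, b5, b5, b5, b5], [a5, a5, a5, a5, a5, b5, a5, a5, a5, a5, b5, b5, b5, b5, a5, b5, a5, a5, a5, a5, b5, b5, b5, b5], [a5, a5, b5, b5, b5, a5, b5, a5, a5, a5, a5, b5, b5, b5, b5], [b5, b5, b5, b5, a5, b5, a5, a5, a5, a5, b5, b5, b5, b5, a5, b5, a5, a5, a5, a5, b5, b5, b5, b5, a5, b5, a5, a5, a5, a5, b5, b5, b5, b5, a5, b5, a5, a5, a5, a5, b5, b5, b5, b5], [a5, a5, b5, a5, b5, a5, a5, a5, a5, b5, b5, b5, b5, a5, b5, a5, a5, a5, a5, b5, b5, b5, b5, a5, b5, a5, a5, a5, a5, b5, b5,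 b5, b5], [a5, a5, a5, a5, b5, b5, b5, a5, b5, a5, a5, a5, a5, b5, b5, b5, b5, a5, b5, a5, a5, a5, a5, b5, b5, b5, b5, a5, b5, a5, a5, a5, a5, b5, b5, b5, b5], [a5, a5, b5, a5, a5, a5, a5, b5, b5, b5, b5, a5, b5, a5, a5, a5, a5, b5, b5, b5, b5, a5, b5, a5, a5, a5, a5, b5, b5, b5, b5, a5, b5, a5, a5, a5, a5, b5, b5, b5, b5], [a5, a5, a5, b5, b5, a5, b5, a5, a5, a5, a5, b5, b5, b5, b5], [a5, a5, b5, a5, a5, a5, a5, b5, b5, b5, b5, a5, b5, a5, a5, a5, a5, b5, b5, b5, b5, a5, b5, a5, a5, a5, a5, b5, b5, b5, b5], [a5, a5, b5, a5, b5, a5, a5, a5, a5, b5, b5, b5, b5, a5, b5, a5, a5, a5, a5, b5, b5, b5, b5], [a5, a5, a5, b5, b5], [a5, a5, a5, a5, b5, b5, b5, a5, b5, a5, a5, a5, a5, b5, b5, b5, b5, a5, b5, a5, a5, a5, a5, b5, b5, b5, b5], [b5, b5, b5, b5, a5, b5, a5, a5, a5, a5, b5, b5, b5, b5, a5, b5, a5, a5, a5, a5, b5, b5, b5, b5, a5, b5, a5, a5, a5, a5, b5, b5, b5, b5], [a5, a5, a5, a5, a5, b5, a5, a5, a5,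 a5, b5, b5, b5, b5, a5, b5, a5, a5, a5, a5, b5, b5, b5, b5, a5, b5, a5, a5, a5, a5, b5, b5, b5, b5], [a5, a5, a5, b5, b5, b5, b5, a5, b5, a5, a5, a5, a5, b5, b5, b5, b5, a5, b5, a5, a5, a5, a5, b5, b5, b5, b5, a5, b5, a5, a5, a5, a5, b5, b5, b5, b5], [a5, a5, b5, b5, b5, a5, b5, a5, a5, a5, a5, b5, b5, b5, b5, a5, b5, a5, a5, a5, a5, b5, b5, b5, b5], [a5, b5, b5], [b5, a5, b5, a5, a5, a5, a5, b5, b5, b5, b5, a5, b5, a5, a5, a5, a5, b5, b5, b5, b5], [a5, b5, b5, a5, b5, a5, a5, a5, a5, b5, b5, b5, b5], [b5, a5, b5, a5, a5, a5, a5, b5, b5, b5, b5, a5, b5, a5, a5, a5, a5, b5, b5, b5, b5, a5, b5, a5, a5, a5, a5, b5, b5, b5, b5], [a5, a5, b5, b5, b5, a5, b5, a5, a5, a5, a5, b5, b5, b5, b5, a5, b5, a5, a5, a5, a5, b5, b5, b5, b5, a5, b5, a5, a5, a5, a5, b5, b5, b5, b5], [a5, a5, a5, b5, b5, b5, b5, a5, b5, a5, a5, a5, a5, b5, b5, b5, b5, a5, b5, a5, a5, a5, a5, b5, b5, b5, b5, a5, b5, a5, a5, a5, a5, b5,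 b5, b5, b5, a5, b5, a5, a5, a5, a5, b5, b5, b5, b5], [a5, a5, a5, a5, a5, b5, a5, a5, a5, a5, b5, b5, b5, b5, a5, b5, a5, a5, a5, a5, b5, b5, b5, b5, a5, b5, a5, a5, a5, a5, b5, b5, b5, b5, a5, b5, a5, a5, a5, a5, b5, b5, b5, b5], [a5, a5, a5, a5, b5, b5, b5, b5, a5, b5, a5, a5, a5, a5, b5, b5, b5, b5, a5, b5, a5, a5, a5, a5, b5, b5, b5, b5, a5, b5, a5, a5, a5, a5, b5, b5, b5, b5], [a5, b5, a5, b5, a5, a5, a5, a5, b5, b5, b5, b5, a5, b5, a5, a5, a5, a5, b5, b5, b5, b5], [a5, a5, b5, b5], [a5, b5, a5, a5, a5, a5, b5, b5, b5, b5, a5, b5, a5, a5, a5, a5, b5, b5, b5, b5, a5, b5, a5, a5, a5, a5, b5, b5, b5, b5], [a5, a5, a5, b5, b5, b5, a5, b5, a5, a5, a5, a5, b5, b5, b5, b5, a5, b5, a5, a5, a5, a5, b5, b5, b5, b5], [b5, b5, b5], [a5, b5, b5, b5, b5, a5, b5, a5, a5, a5, a5, b5, b5, b5, b5], [a5, a5, a5, b5, a5, a5, a5, a5, b5, b5, b5, b5], [a5, a5, a5, b5], [a5, a5, a5, a5, b5, b5, a5, b5, a5, a5, a5, a5,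 b5, b5, b5, b5, a5, b5, a5, a5, a5, a5, b5, b5, b5, b5, a5, b5, a5, a5, a5, a5, b5, b5, b5, b5], [a5, a5, a5, a5, b5, a5, a5, a5, a5, b5, b5, b5, b5, a5, b5, a5, a5, a5, a5, b5, b5, b5, b5, a5, b5, a5, a5, a5, a5, b5, b5, b5, b5, a5, b5, a5, a5, a5, a5, b5, b5, b5, b5], [a5, b5, b5, b5, a5, b5, a5, a5, a5, a5, b5, b5, b5, b5, a5, b5, a5, a5, a5, a5, b5, b5, b5, b5, a5, b5, a5, a5, a5, a5, b5, b5, b5, b5], [a5, a5, b5, b5, b5, b5, a5, b5, a5, a5, a5, a5, b5, b5, b5, b5, a5, b5, a5, a5, a5, a5, b5, b5, b5, b5, a5, b5, a5, a5, a5, a5, b5, b5, b5, b5, a5, b5, a5, a5, a5, a5, b5, b5, b5, b5], [a5, a5, a5, a5, b5, a5, b5, a5, a5, a5, a5, b5, b5, b5, b5, a5, b5, a5, a5, a5, a5, b5, b5, b5, b5, a5, b5, a5, a5, a5, a5, b5, b5, b5, b5], [b5, b5, a5, b5, a5, a5, a5, a5, b5, b5, b5, b5], [a5, a5, b5, b5, b5], [b5], [a5, a5, a5, b5, b5, b5, b5, a5, b5, a5, a5, a5, a5, b5, b5, b5, b5], [a5, b5, b5, a5, b5, a5, a5,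 a5, a5, b5, b5, b5, b5, a5, b5, a5, a5, a5, a5, b5, b5, b5, b5, a5, b5, a5, a5, a5, a5, b5, b5, b5, b5], [a5, a5, a5, a5, a5, b5, a5, a5, a5, a5, b5, b5, b5, b5], [b5, b5, b5, b5, a5, b5, a5, a5, a5, a5, b5, b5, b5, b5, a5, b5, a5, a5, a5, a5, b5, b5, b5, b5], [a5, a5, a5, a5, b5, b5, b5, a5, b5, a5, a5, a5, a5, b5, b5, b5, b5], [a5, a5, b5, a5, a5, a5, a5, b5, b5, b5, b5, a5, b5, a5, a5, a5, a5, b5, b5, b5, b5], [a5, a5, a5, b5, b5, a5, b5, a5, a5, a5, a5, b5, b5, b5, b5, a5, b5, a5, a5, a5, a5, b5, b5, b5, b5, a5, b5, a5, a5, a5, a5, b5, b5, b5, b5, a5, b5, a5, a5, a5, a5, b5, b5, b5, b5], [a5, a5, b5, a5, b5, a5, a5, a5, a5, b5, b5, b5, b5], [a5, b5, b5, b5, b5, a5, b5, a5, a5, a5, a5, b5, b5, b5, b5, a5, b5, a5, a5, a5, a5, b5, b5, b5, b5, a5, b5, a5, a5, a5, a5, b5, b5, b5, b5, a5, b5, a5, a5, a5, a5, b5, b5, b5, b5], [a5, a5, a5, b5, a5, a5, a5, a5, b5, b5, b5, b5, a5, b5, a5, a5, a5, a5, b5,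 b5, b5, b5, a5, b5, a5, a5, a5, a5, b5, b5, b5, b5, a5, b5, a5, a5, a5, a5, b5, b5, b5, b5], [a5, a5, a5, a5, b5, b5, a5, b5, a5, a5, a5, a5, b5, b5, b5, b5], [a5, a5, a5, b5, a5, b5, a5, a5, a5, a5, b5, b5, b5, b5, a5, b5, a5, a5, a5, a5, b5, b5, b5, b5, a5, b5, a5, a5, a5, a5, b5, b5, b5, b5], [b5, b5, b5, a5, b5, a5, a5, a5, a5, b5, b5, b5, b5, a5, b5, a5, a5, a5, a5, b5, b5, b5, b5, a5, b5, a5, a5, a5, a5, b5, b5, b5, b5], [a5, a5, a5, a5, b5, b5, b5, a5, b5, a5, a5, a5, a5, b5, b5, b5, b5, a5, b5, a5, a5, a5, a5, b5, b5, b5, b5, a5, b5, a5, a5, a5, a5, b5, b5, b5, b5, a5, b5, a5, a5, a5, a5, b5, b5, b5, b5], [a5], [a5, a5, b5, a5, b5, a5, a5, a5, a5, b5, b5, b5, b5, a5, b5, a5, a5, a5, a5, b5, b5, b5, b5, a5, b5, a5, a5, a5, a5, b5, b5, b5, b5, a5, b5, a5, a5, a5, a5, b5, b5, b5, b5], [a5, a5, a5, b5, b5, a5, b5, a5, a5, a5, a5, b5, b5, b5, b5, a5, b5, a5, a5, a5, a5, b5, b5, b5, b5], [b5, b5,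 b5, b5], [a5, a5, a5], [a5, b5, b5, b5, a5, b5, a5, a5, a5, a5, b5, b5, b5, b5, a5, b5, a5, a5, a5, a5, b5, b5, b5, b5, a5, b5, a5, a5, a5, a5, b5, b5, b5, b5, a5, b5, a5, a5, a5, a5, b5, b5, b5, b5], [a5, a5, b5, b5, b5, b5], [a5, a5, a5, a5, b5, a5, b5, a5, a5, a5, a5, b5, b5, b5, b5, a5, b5, a5, a5, a5, a5, b5, b5, b5, b5, a5, b5, a5, a5, a5, a5, b5, b5, b5, b5, a5, b5, a5, a5, a5, a5, b5, b5, b5, b5], [b5, b5, a5, b5, a5, a5, a5, a5, b5, b5, b5, b5, a5, b5, a5, a5, a5, a5, b5, b5, b5, b5], [a5, b5, a5, a5, a5, a5, b5, b5, b5, b5, a5, b5, a5, a5, a5, a5, b5, b5, b5, b5, a5, b5, a5, a5, a5, a5, b5, b5, b5, b5, a5, b5, a5, a5, a5, a5, b5, b5, b5, b5], [a5, b5, a5, b5, a5, a5, a5, a5, b5, b5, b5, b5, a5, b5, a5, a5, a5, a5, b5, b5, b5, b5, a5, b5, a5, a5, a5, a5, b5, b5, b5, b5], [a5, a5, b5, b5, a5, b5, a5, a5, a5, a5, b5, b5, b5, b5], [a5, a5, a5, a5, b5, b5, b5, b5, a5, b5, a5, a5, a5, a5, b5, b5,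 b5, b5, a5, b5, a5, a5, a5, a5, b5, b5, b5, b5, a5, b5, a5, a5, a5, a5, b5, b5, b5, b5, a5, b5, a5, a5, a5, a5, b5, b5, b5, b5], [a5, a5, a5, b5, b5, b5, a5, b5, a5, a5, a5, a5, b5, b5, b5, b5, a5, b5, a5, a5, a5, a5, b5, b5, b5, b5, a5, b5, a5, a5, a5, a5, b5, b5, b5, b5], [a5, b5, a5, b5, a5, a5, a5, a5, b5, b5, b5, b5, a5, b5, a5, a5, a5, a5, b5, b5, b5, b5, a5, b5, a5, a5, a5, a5, b5, b5, b5, b5, a5, b5, a5, a5, a5, a5, b5, b5, b5, b5], [a5, a5, a5, a5, b5, b5, b5, b5], [a5, a5, a5, b5, b5, b5, a5, b5, a5, a5, a5, a5, b5, b5, b5, b5, a5, b5, a5, a5, a5, a5, b5, b5, b5, b5, a5, b5, a5, a5, a5, a5, b5, b5, b5, b5, a5, b5, a5, a5, a5, a5, b5, b5, b5, b5], [a5, a5, b5, b5, a5, b5, a5, a5, a5, a5, b5, b5, b5, b5, a5, b5, a5, a5, a5, a5, b5, b5, b5, b5], []]⟩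

/-- An involution without fixed points. -/
def inv0 : ℕ := 446068103100704928105679334951761760226797503487118534108638812475932159002809839270861230050480997380130897952057625922824755076565050004727947425496303427170463986859826076420269440637501583582831023537899334271566489188968211789104874065

/-- Its transpositions. -/
def pairs : List (Fin 100 × Fin 100) := [(0, 81), (1, 2), (3, 72), (4, 12), (5, 30), (6, 66), (7, 83), (8, 47), (9, 65), (10, 64), (11, 33), (13, 92), (14, 82), (15, 89), (16, 51), (17, 99), (18, 28), (19, 31), (20, 70), (21, 43), (22, 60), (23, 39), (24, 63), (25, 53), (26, 86), (27, 34), (29, 73), (32, 98), (35, 79), (36, 97), (37, 55), (38, 42), (40, 94), (41, 75), (44, 59), (45, 58), (46, 76), (48, 71), (49, 93), (50, 84), (52, 67), (54, 62), (56, 57), (61, 96), (68, 87), (69, 91), (74, 78), (77, 90), (80, 85), (88, 95)]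

end CfsgLib.SchurPerm.HSData
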